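import Mathlib

/-!
# The group `HS R = Heis(R) ⋊ SL(2,R)`

Underlying set `R² × R × SL(2,R)` with
`(v,r,A)(w,s,B) = (v + A w, r + s + dt(v, A w), A B)`.
-/

set_option autoImplicit false

namespace Cfsg.Agent.Lib.H3366

open Matrix

universe u v

/-- The alternating form on `R²`. -/
def dt {R : Type u} [CommRing R] (v w : Fin 2 → R) : R := v 0 * w 1 - v 1 * w 0

/-- Carrier of `Heis(R) ⋊ SL(2,R)`. -/
@[ext] structure HS (R : Type u) [CommRing R] where
  v : Fin 2 → R
  r : R
  A : SpecialLinearGroup (Fin 2) R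

variable {R : Type u} [CommRing R]

theorem dt_mulVec (A : SpecialLinearGroup (Fin 2) R) (v w : Fin 2 → R) :
    dt ((A : Matrix (Fin 2) (Fin 2) R) *ᵥ v) ((A : Matrix (Fin 2) (Fin 2) R) *ᵥ w) = dt v w := by
  have h := A.2
  rw [Matrix.det_fin_two] at h
  simp only [dt, mulVec, dotProduct, Fin.sum_univ_two]
  linear_combination (v 0 * w 1 - v 1 * w 0) * h

theorem dt_add_left (u v w : Fin 2 → R) : dt (u + v) w = dt u w + dt v w := by
  simp only [dt, Pi.add_apply]; ring

theorem dt_add_right (u v w : Fin 2 → R) : dt u (v + w) = dt u v + dt u w := by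
  simp only [dt, Pi.add_apply]; ring

theorem dt_neg_self (u : Fin 2 → R) : dt (-u) u = 0 := by
  simp only [dt, Pi.neg_apply]; ring

theorem dt_self (u : Fin 2 → R) : dt u u = 0 := by
  simp only [dt]; ring

theorem dt_zero_left (u : Fin 2 → R) : dt 0 u = 0 := by
  simp [dt]

theorem dt_zero_right (u : Fin 2 → R) : dt u 0 = 0 := by
  simp [dt]

instance : Mul (HS R) :=
  ⟨fun x y => ⟨x.v + (x.A : Matrix (Fin 2) (Fin 2) R) *ᵥ y.v,
    x.r + y.r + dt x.v ((x.A : Matrix (Fin 2) (Fin 2) R) *ᵥ y.v), x.A * y.A⟩⟩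

instance : One (HS R) := ⟨⟨0, 0, 1⟩⟩

instance : Inv (HS R) :=
  ⟨fun x => ⟨-(((x.A⁻¹ : SpecialLinearGroup (Fin 2) R) : Matrix (Fin 2) (Fin 2) R) *ᵥ x.v), -x.r, x.A⁻¹⟩⟩

@[simp] theorem mul_v (x y : HS R) : (x * y).v = x.v + (x.A : Matrix (Fin 2) (Fin 2) R) *ᵥ y.v := rfl
@[simp] theorem mul_r (x y : HS R) :
    (x * y).r = x.r + y.r + dt x.v ((x.A : Matrix (Fin 2) (Fin 2) R) *ᵥ y.v) := rfl
@[simp] theorem mul_A (x y : HS R) : (x * y).A = x.A * y.A := rfl
@[simp] theorem one_v : (1 : HS R).v = 0 := rfl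
@[simp] theorem one_r : (1 : HS R).r = 0 := rfl
@[simp] theorem one_A : (1 : HS R).A = 1 := rfl

theorem coe_mul' (A B : SpecialLinearGroup (Fin 2) R) :
    ((A * B : SpecialLinearGroup (Fin 2) R) : Matrix (Fin 2) (Fin 2) R) =
      (A : Matrix (Fin 2) (Fin 2) R) * (B : Matrix (Fin 2) (Fin 2) R) := rfl

private theorem hs_mul_assoc (x y z : HS R) : x * y * z = x * (y * z) := by
  ext1
  · simp only [mul_v, mul_A, coe_mul', mulVec_add, mulVec_mulVec, add_assoc]
  · simp only [mul_v, mul_r, mul_A, coe_mul', mulVec_add, dt_add_left, dt_add_right]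
    rw [← mulVec_mulVec, dt_mulVec]
    ring
  · simp only [mul_A, mul_assoc]

private theorem hs_one_mul (x : HS R) : 1 * x = x := by
  ext1
  · simp
  · simp [dt_zero_left]
  · simp

private theorem hs_inv_mul (x : HS R) : x⁻¹ * x = 1 := by
  have hv : (x⁻¹).v = -(((x.A⁻¹ : SpecialLinearGroup (Fin 2) R) : Matrix (Fin 2) (Fin 2) R) *ᵥ x.v) := rfl
  have hr : (x⁻¹).r = -x.r := rfl
  have hA : (x⁻¹).A = x.A⁻¹ := rfl
  ext1
  · simp only [mul_v, hv, hA]; simp
  · simp only [mul_r, hv, hr, hA, dt_neg_self]; simp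
  · simp [hA]

instance : Group (HS R) := Group.ofLeftAxioms hs_mul_assoc hs_one_mul hs_inv_mul

/-- The central element `(0,1,1)`. -/
def z₀ : HS R := ⟨0, 1, 1⟩

theorem z₀_comm (x : HS R) : x * z₀ = z₀ * x := by
  ext1
  · simp [z₀]
  · simp [z₀, dt_zero_left, dt_zero_right]; ring
  · simp [z₀]

theorem z₀_pow_three (h3 : (3 : R) = 0) : (z₀ : HS R) ^ 3 = 1 := by
  rw [pow_succ, pow_two]
  ext1
  · simp [z₀]
  · simp [z₀, dt_zero_right]
    linear_combination h3
  · simp [z₀]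

theorem z₀_ne_one [Nontrivial R] : (z₀ : HS R) ≠ 1 := by
  intro h
  have := congrArg HS.r h
  simp [z₀] at this

/-- Coordinates. -/
def hsEquiv : HS R ≃ (Fin 2 → R) × R × SpecialLinearGroup (Fin 2) R where
  toFun x := (x.v, x.r, x.A)
  invFun y := ⟨y.1, y.2.1, y.2.2⟩
  left_inv _ := rfl
  right_inv _ := rfl

section map

variable {S : Type v} [CommRing S]

theorem map_entry (f : R →+* S) (A : SpecialLinearGroup (Fin 2) R) (i j : Fin 2) :
    ((SpecialLinearGroup.map f A : SpecialLinearGroup (Fin 2) S) : Matrix (Fin 2) (Fin 2) S) i j =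
      f ((A : Matrix (Fin 2) (Fin 2) R) i j) := rfl

/-- Transport along a ring isomorphism. -/
def hsMap (ι : R ≃+* S) : HS R ≃* HS S where
  toFun x := ⟨fun i => ι (x.v i), ι x.r, SpecialLinearGroup.map ι.toRingHom x.A⟩
  invFun x := ⟨fun i => ι.symm (x.v i), ι.symm x.r, SpecialLinearGroup.map ι.symm.toRingHom x.A⟩
  left_inv x := by
    ext1
    · funext i; simp
    · simp
    · ext i j; simp only [map_entry]; simp
  right_inv x := by
    ext1
    · funext i; simp
    · simp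
    · ext i j; simp only [map_entry]; simp
  map_mul' x y := by
    ext1
    · funext i
      simp only [mul_v, Pi.add_apply, map_add, mulVec, dotProduct, Fin.sum_univ_two, map_entry, map_mul]
      simp
    · simp only [mul_r, map_add, dt, mulVec, dotProduct, Fin.sum_univ_two, map_entry, map_mul, map_sub]
      simp
    · simp

end map

end Cfsg.Agent.Lib.H3366
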