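import Cfsg.Agent.Lib.H3366.HeisSL
import Cfsg.Agent.Lib.Classical.SympSimple
import Cfsg.Prelude.Def_Classical
import Mathlib

/-!
# `HS F` is the centraliser of a long-root element in `PSp(4,F)`, char `F = 3`.
-/

set_option autoImplicit false

namespace Cfsg.Agent.Lib.H3366

open Matrix

universe u

variable {F : Type u} [Field F]

/-- The index type. -/
abbrev I4 := Fin 2 ⊕ Fin 2

/-- `L0`. -/
abbrev L0 : I4 := Sum.inl 0
/-- `L1`. -/
abbrev L1 : I4 := Sum.inl 1
/-- `R0`. -/
abbrev R0 : I4 := Sum.inr 0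
/-- `R1`. -/
abbrev R1 : I4 := Sum.inr 1

/-- The matrix of an element of `HS F`. -/
def gmat (x : HS F) : Matrix I4 I4 F :=
  fromBlocks
    !![1, (x.A : Matrix (Fin 2) (Fin 2) F) 1 0 * x.v 0 - (x.A : Matrix (Fin 2) (Fin 2) F) 0 0 * x.v 1;
       0, (x.A : Matrix (Fin 2) (Fin 2) F) 0 0]
    !![x.r, (x.A : Matrix (Fin 2) (Fin 2) F) 1 1 * x.v 0 - (x.A : Matrix (Fin 2) (Fin 2) F) 0 1 * x.v 1;
       x.v 0, (x.A : Matrix (Fin 2) (Fin 2) F) 0 1]
    !![0, 0; 0, (x.A : Matrix (Fin 2) (Fin 2) F) 1 0]
    !![1, 0; x.v 1, (x.A : Matrix (Fin 2) (Fin 2) F) 1 1]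

theorem GJG (G : Matrix I4 I4 F) (i j : I4) :
    (G * J (Fin 2) F * Gᵀ) i j = -(G i L0 * G j R0) - (G i L1 * G j R1) + G i R0 * G j L0 + G i R1 * G j L1 := by
  simp [Matrix.mul_apply, Fintype.sum_sum_type, Fin.sum_univ_two, J, Matrix.one_apply]
  ring

theorem gmat_mem (x : HS F) : gmat x ∈ symplecticGroup (Fin 2) F := by
  rw [SymplecticGroup.mem_iff]
  have hdet := x.A.2
  rw [Matrix.det_fin_two] at hdet
  ext (i | i) (j | j) <;> fin_cases i <;> fin_cases j <;>
    (rw [GJG]; simp [gmat, J, Matrix.one_apply]) <;>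
    first
    | ring1
    | linear_combination hdet
    | linear_combination -hdet
    | linear_combination (x.v 0) * hdet
    | linear_combination (x.v 1) * hdet
    | linear_combination -(x.v 0) * hdet
    | linear_combination -(x.v 1) * hdet

theorem gmat_mul (x y : HS F) : gmat (x * y) = gmat x * gmat y := by
  have hdet := x.A.2
  rw [Matrix.det_fin_two] at hdet
  ext (i | i) (j | j) <;> fin_cases i <;> fin_cases j <;>
    simp [gmat, Matrix.mul_apply, Fintype.sum_sum_type, Fin.sum_univ_two, mulVec, dotProduct, dt] <;>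
    first
    | ring1
    | linear_combination ((y.A : Matrix (Fin 2) (Fin 2) F) 1 0 * y.v 0 - (y.A : Matrix (Fin 2) (Fin 2) F) 0 0 * y.v 1) * hdet
    | linear_combination ((y.A : Matrix (Fin 2) (Fin 2) F) 1 1 * y.v 0 - (y.A : Matrix (Fin 2) (Fin 2) F) 0 1 * y.v 1) * hdet

theorem gmat_one : gmat (1 : HS F) = 1 := by
  ext (i | i) (j | j) <;> fin_cases i <;> fin_cases j <;> simp [gmat, Matrix.one_apply]

/-- The homomorphism to `Sp`. -/
def gHom : HS F →* symplecticGroup (Fin 2) F where
  toFun x := ⟨gmat x, gmat_mem x⟩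
  map_one' := Subtype.ext gmat_one
  map_mul' x y := Subtype.ext (gmat_mul x y)

@[simp] theorem gHom_coe (x : HS F) : ((gHom x : symplecticGroup (Fin 2) F) : Matrix I4 I4 F) = gmat x := rfl

section entries
variable (x : HS F)
theorem gmat_L0L0 : gmat x L0 L0 = 1 := by simp [gmat]
theorem gmat_L1R0 : gmat x L1 R0 = x.v 0 := by simp [gmat]
theorem gmat_R1R0 : gmat x R1 R0 = x.v 1 := by simp [gmat]
theorem gmat_L0R0 : gmat x L0 R0 = x.r := by simp [gmat]
theorem gmat_L1L1 : gmat x L1 L1 = (x.A : Matrix (Fin 2) (Fin 2) F) 0 0 := by simp [gmat]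
theorem gmat_L1R1 : gmat x L1 R1 = (x.A : Matrix (Fin 2) (Fin 2) F) 0 1 := by simp [gmat]
theorem gmat_R1L1 : gmat x R1 L1 = (x.A : Matrix (Fin 2) (Fin 2) F) 1 0 := by simp [gmat]
theorem gmat_R1R1 : gmat x R1 R1 = (x.A : Matrix (Fin 2) (Fin 2) F) 1 1 := by simp [gmat]
end entries

theorem gmat_injective : Function.Injective (gmat : HS F → Matrix I4 I4 F) := by
  intro x y h
  have e : ∀ i j, gmat x i j = gmat y i j := fun i j => by rw [h]
  ext1
  · funext i
    fin_cases i
    · simpa [gmat_L1R0] using e L1 R0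
    · simpa [gmat_R1R0] using e R1 R0
  · simpa [gmat_L0R0] using e L0 R0
  · ext i j
    fin_cases i <;> fin_cases j
    · simpa [gmat_L1L1] using e L1 L1
    · simpa [gmat_L1R1] using e L1 R1
    · simpa [gmat_R1L1] using e R1 L1
    · simpa [gmat_R1R1] using e R1 R1

/-- A symplectic matrix commuting with the root element and with `G₀₀ = 1` is some `gmat x`. -/
theorem exists_gmat_of_comm (G : Matrix I4 I4 F) (hG : G * J (Fin 2) F * Gᵀ = J (Fin 2) F)
    (hc : G * gmat (z₀ : HS F) = gmat (z₀ : HS F) * G) (h1 : G L0 L0 = 1) : ∃ x : HS F, G = gmat x := by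
  have ec : ∀ i j, (G * gmat (z₀ : HS F)) i j = (gmat (z₀ : HS F) * G) i j := fun i j => by rw [hc]
  have es : ∀ i j, -(G i L0 * G j R0) - (G i L1 * G j R1) + G i R0 * G j L0 + G i R1 * G j L1 =
      J (Fin 2) F i j := fun i j => by rw [← GJG, hG]
  have z1 : G L1 L0 = 0 := by
    have := ec L1 R0
    simpa [gmat, z₀, Matrix.mul_apply, Fintype.sum_sum_type, Fin.sum_univ_two] using this
  have z2 : G R0 L0 = 0 := by
    have := ec R0 R0
    simpa [gmat, z₀, Matrix.mul_apply, Fintype.sum_sum_type, Fin.sum_univ_two] using this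
  have z3 : G R1 L0 = 0 := by
    have := ec R1 R0
    simpa [gmat, z₀, Matrix.mul_apply, Fintype.sum_sum_type, Fin.sum_univ_two] using this
  have z4 : G R0 L1 = 0 := by
    have := ec L0 L1
    simpa [gmat, z₀, Matrix.mul_apply, Fintype.sum_sum_type, Fin.sum_univ_two] using this
  have z5 : G R0 R1 = 0 := by
    have := ec L0 R1
    simpa [gmat, z₀, Matrix.mul_apply, Fintype.sum_sum_type, Fin.sum_univ_two] using this
  have z6 : G R0 R0 = 1 := by
    have := ec L0 R0
    have h : G L0 L0 + G L0 R0 = G L0 R0 + G R0 R0 := by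
      simpa [gmat, z₀, Matrix.mul_apply, Fintype.sum_sum_type, Fin.sum_univ_two] using this
    rw [h1] at h
    linear_combination -h
  have hdet : G L1 L1 * G R1 R1 - G L1 R1 * G R1 L1 = 1 := by
    have := es L1 R1
    simp only [z1, z3] at this
    have hJ : J (Fin 2) F L1 R1 = -1 := by simp [J]
    rw [hJ] at this
    linear_combination -this
  have e1 := es L0 L1
  have e2 := es L0 R1
  have hJ1 : J (Fin 2) F L0 L1 = 0 := by simp [J]
  have hJ2 : J (Fin 2) F L0 R1 = 0 := by simp [J]
  rw [hJ1] at e1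
  rw [hJ2] at e2
  simp only [h1, z1, z3] at e1 e2
  refine ⟨⟨![G L1 R0, G R1 R0], G L0 R0,
    ⟨!![G L1 L1, G L1 R1; G R1 L1, G R1 R1], by rw [Matrix.det_fin_two_of]; exact hdet⟩⟩, ?_⟩
  ext (i | i) (j | j) <;> fin_cases i <;> fin_cases j <;> simp [gmat]
  all_goals
    first
    | exact h1 | exact z1 | exact z2 | exact z3 | exact z4 | exact z5 | exact z6
    | linear_combination (-G L0 L1) * hdet + (G R1 L1) * e1 - (G L1 L1) * e2
    | linear_combination (-G L0 R1) * hdet + (G R1 R1) * e1 - (G L1 R1) * e2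

open Cfsg.Agent.Lib.Classical.SympSimple in
/-- The main statement of this file. -/
theorem sp_centralizer (h3 : (3 : F) = 0) :
    ∃ c : Cfsg.PSp 2 F, orderOf c = 3 ∧
      Nonempty (HS F ≃* Subgroup.centralizer ({c} : Set (Cfsg.PSp 2 F))) := by
  classical
  have h11 : (1 : F) ≠ -1 := by
    intro h
    have h2 : (2 : F) = 0 := by linear_combination h
    have : (1 : F) = 0 := by linear_combination h3 - h2
    exact one_ne_zero this
  set Sp4 := symplecticGroup (Fin 2) F with hSp4
  let π : Sp4 →* Cfsg.PSp 2 F := QuotientGroup.mk' (Subgroup.center Sp4)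
  let Ψ : HS F →* Cfsg.PSp 2 F := π.comp gHom
  have hker : ∀ G : Sp4, π G = 1 ↔ G = 1 ∨ G = negOne 2 F := by
    intro G
    rw [← mem_center_symplecticGroup_iff (by norm_num) G]
    exact QuotientGroup.eq_one_iff G
  have hΨinj : Function.Injective Ψ := by
    rw [injective_iff_map_eq_one]
    intro x hx
    rcases (hker (gHom x)).1 hx with h | h
    · apply gmat_injective
      rw [gmat_one]
      exact congrArg Subtype.val h
    · exfalso
      have h' : gmat x L0 L0 = (negOne 2 F : Matrix I4 I4 F) L0 L0 := by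
        have := congrArg Subtype.val h
        rw [gHom_coe] at this
        rw [this]
      rw [gmat_L0L0] at h'
      simp [negOne] at h'
      exact h11 h'
  have hneg1 : (negOne 2 F : Sp4) ≠ 1 := by
    intro h
    have h' := congrArg (fun G : Sp4 => (G : Matrix I4 I4 F) L0 L0) h
    simp [negOne] at h'
    exact h11 h'.symm
  have hnegcube : (negOne 2 F : Sp4) ^ 3 = negOne 2 F := by
    apply Subtype.ext
    simp [negOne, pow_succ]
  refine ⟨Ψ z₀, ?_, ?_⟩
  · have hp : (z₀ : HS F) ^ 3 = 1 := z₀_pow_three h3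
    have h0 : orderOf (z₀ : HS F) = 3 := orderOf_eq_prime hp z₀_ne_one
    rw [orderOf_injective Ψ hΨinj, h0]
  · have hrange : Ψ.range = Subgroup.centralizer ({Ψ z₀} : Set (Cfsg.PSp 2 F)) := by
      ext y
      rw [Subgroup.mem_centralizer_singleton_iff]
      constructor
      · rintro ⟨x, rfl⟩
        rw [← map_mul, ← map_mul, z₀_comm]
      · intro hy
        obtain ⟨G, rfl⟩ := QuotientGroup.mk'_surjective (Subgroup.center Sp4) y
        change π G * π (gHom z₀) = π (gHom z₀) * π G at hy
        have h4 : π (G * gHom z₀ * G⁻¹ * (gHom z₀)⁻¹) = 1 := by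
          rw [map_mul, map_mul, map_mul, hy, map_inv, map_inv]
          group
        have hcomm : G * gHom z₀ = gHom z₀ * G := by
          rcases (hker _).1 h4 with h | h
          · have : G * gHom z₀ * G⁻¹ = gHom z₀ := by
              rwa [mul_inv_eq_one] at h
            exact mul_inv_eq_iff_eq_mul.1 this
          · exfalso
            have hcen : ∀ B : Sp4, negOne 2 F * B = B * negOne 2 F :=
              fun B => (Subgroup.mem_center_iff.1 ((mem_center_symplecticGroup_iff (by norm_num) _).2 (Or.inr rfl)) B).symm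
            have h5 : G * gHom z₀ * G⁻¹ = negOne 2 F * gHom z₀ := by
              rw [mul_inv_eq_iff_eq_mul] at h
              exact h
            have h6 : (G * gHom z₀ * G⁻¹) ^ 3 = 1 := by
              have : G * gHom z₀ * G⁻¹ = MulAut.conj G (gHom z₀) := by simp [MulAut.conj_apply]
              rw [this, ← map_pow, ← map_pow, z₀_pow_three h3, map_one, map_one]
            rw [h5] at h6
            have h7 : (negOne 2 F * gHom z₀) ^ 3 = negOne 2 F ^ 3 * (gHom z₀) ^ 3 := by
              have : Commute (negOne 2 F) (gHom (z₀ : HS F)) := hcen _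
              exact this.mul_pow 3
            rw [h7, hnegcube, ← map_pow, z₀_pow_three h3, map_one, mul_one] at h6
            exact hneg1 h6
        have hmat : (G : Matrix I4 I4 F) * gmat z₀ = gmat z₀ * (G : Matrix I4 I4 F) := congrArg Subtype.val hcomm
        have hsym : (G : Matrix I4 I4 F) * J (Fin 2) F * (G : Matrix I4 I4 F)ᵀ = J (Fin 2) F :=
          SymplecticGroup.mem_iff.1 G.2
        -- entries
        have ec : ∀ i j, ((G : Matrix I4 I4 F) * gmat (z₀ : HS F)) i j = (gmat (z₀ : HS F) * (G : Matrix I4 I4 F)) i j :=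
          fun i j => by rw [hmat]
        have es : ∀ i j, -((G : Matrix I4 I4 F) i L0 * (G : Matrix I4 I4 F) j R0) -
            ((G : Matrix I4 I4 F) i L1 * (G : Matrix I4 I4 F) j R1) +
            (G : Matrix I4 I4 F) i R0 * (G : Matrix I4 I4 F) j L0 +
            (G : Matrix I4 I4 F) i R1 * (G : Matrix I4 I4 F) j L1 = J (Fin 2) F i j :=
          fun i j => by rw [← GJG, hsym]
        have z4 : (G : Matrix I4 I4 F) R0 L0 = 0 := by
          have := ec R0 R0
          simpa [gmat, z₀, Matrix.mul_apply, Fintype.sum_sum_type, Fin.sum_univ_two] using this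
        have z5 : (G : Matrix I4 I4 F) R0 L1 = 0 := by
          have := ec L0 L1
          simpa [gmat, z₀, Matrix.mul_apply, Fintype.sum_sum_type, Fin.sum_univ_two] using this
        have z6 : (G : Matrix I4 I4 F) R0 R1 = 0 := by
          have := ec L0 R1
          simpa [gmat, z₀, Matrix.mul_apply, Fintype.sum_sum_type, Fin.sum_univ_two] using this
        have z7 : (G : Matrix I4 I4 F) L0 L0 = (G : Matrix I4 I4 F) R0 R0 := by
          have := ec L0 R0
          have h : (G : Matrix I4 I4 F) L0 L0 + (G : Matrix I4 I4 F) L0 R0 =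
              (G : Matrix I4 I4 F) L0 R0 + (G : Matrix I4 I4 F) R0 R0 := by
            simpa [gmat, z₀, Matrix.mul_apply, Fintype.sum_sum_type, Fin.sum_univ_two] using this
          linear_combination h
        have hsq : (G : Matrix I4 I4 F) L0 L0 * (G : Matrix I4 I4 F) L0 L0 = 1 := by
          have h := es L0 R0
          simp only [z4, z5, z6] at h
          have hJ : J (Fin 2) F L0 R0 = -1 := by simp [J]
          rw [hJ, ← z7] at h
          linear_combination -h
        have hcases : (G : Matrix I4 I4 F) L0 L0 = 1 ∨ (G : Matrix I4 I4 F) L0 L0 = -1 :=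
          mul_self_eq_one_iff.1 hsq
        rcases hcases with h1 | h1
        · obtain ⟨x, hx⟩ := exists_gmat_of_comm (G : Matrix I4 I4 F) hsym hmat h1
          refine ⟨x, ?_⟩
          change π (gHom x) = π G
          congr 1
          exact Subtype.ext hx.symm
        · have hG' : ((negOne 2 F * G : Sp4) : Matrix I4 I4 F) = -(G : Matrix I4 I4 F) := by
            simp [negOne]
          have hcommN : negOne 2 F * G * gHom z₀ = gHom z₀ * (negOne 2 F * G) := by
            have hcen : ∀ B : Sp4, negOne 2 F * B = B * negOne 2 F :=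
              fun B => (Subgroup.mem_center_iff.1 ((mem_center_symplecticGroup_iff (by norm_num) _).2 (Or.inr rfl)) B).symm
            rw [mul_assoc, hcomm, ← mul_assoc, ← mul_assoc, hcen]
          obtain ⟨x, hx⟩ := exists_gmat_of_comm ((negOne 2 F * G : Sp4) : Matrix I4 I4 F)
            (SymplecticGroup.mem_iff.1 (negOne 2 F * G).2) (congrArg Subtype.val hcommN)
            (by rw [hG']; simp [h1])
          refine ⟨x, ?_⟩
          have hx' : gHom x = negOne 2 F * G := Subtype.ext hx.symm
          change π (gHom x) = π G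
          rw [hx', map_mul]
          have : π (negOne 2 F) = 1 := (hker _).2 (Or.inr rfl)
          rw [this, one_mul]
    exact ⟨(MonoidHom.ofInjective hΨinj).trans (MulEquiv.subgroupCongr hrange)⟩

end Cfsg.Agent.Lib.H3366
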