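import Cfsg.Agent.Lib.H3366.HeisSL
import Mathlib

/-!
# Structure of a group `X` with `O₃(X) = 3^{1+2}`, `X/O₃(X) = SL(2,3)`, `O₂(X) = 1`, split version.
-/

set_option autoImplicit false

namespace Cfsg.Agent.Lib.H3366

open Matrix

universe u

/-- `SL(2,3)`. -/
abbrev SL23 := SpecialLinearGroup (Fin 2) (ZMod 3)

theorem sl_sq2 : ∀ A : SL23, ∃ B C : SL23, A = B ^ 2 * C ^ 2 := by decide +kernel
theorem sl_cardT8 : (Finset.univ.filter (fun A : SL23 => A ^ 8 = 1)).card = 8 := by decide +kernel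
theorem sl_card : Fintype.card SL23 = 24 := by decide +kernel
theorem sl_neg_central : ∀ A : SL23, (-1 : SL23) * A = A * (-1) := by decide +kernel
theorem sl_neg_ne : (-1 : SL23) ≠ 1 := by decide +kernel
theorem sl_neg_sq : (-1 : SL23) ^ 2 = 1 := by decide +kernel
theorem sl_neg_cube : (-1 : SL23) ^ 3 = -1 := by decide +kernel
theorem sl_neg_eight : (-1 : SL23) ^ 8 = 1 := by decide +kernel
theorem sl_wordD : ∀ A : SL23, A ≠ 1 → A = -1 ∨ A ^ 2 = -1 ∨ A ^ 3 = -1 ∨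
    ∃ B : SL23, (A * B * A⁻¹ * B⁻¹) ^ 2 = -1 := by decide +kernel
theorem sl_surjT : ∀ A₀ B : SL23, A₀ ^ 3 = 1 → A₀ ≠ 1 →
    (B ^ 8 = 1 ∨ (B * (A₀)⁻¹) ^ 8 = 1 ∨ (B * (A₀ ^ 2)⁻¹) ^ 8 = 1) := by decide +kernel

theorem pow3_pow8 {G : Type*} [Group G] {x : G} (h3 : x ^ 3 = 1) (h8 : x ^ 8 = 1) : x = 1 := by
  calc x = x ^ 9 * (x ^ 8)⁻¹ := by group
    _ = (x ^ 3) ^ 3 * (x ^ 8)⁻¹ := by rw [← pow_mul]
    _ = 1 := by rw [h3, h8]; simp

theorem pow3_pow2 {G : Type*} [Group G] {x : G} (h3 : x ^ 3 = 1) (h2 : x ^ 2 = 1) : x = 1 := by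
  calc x = x ^ 3 * (x ^ 2)⁻¹ := by group
    _ = 1 := by rw [h3, h2]; simp

theorem mem_of_card3 {G : Type*} [Group G] (S : Subgroup G) (hS : Nat.card S = 3) {z y : G}
    (hz : z ∈ S) (hy : y ∈ S) (hz1 : z ≠ 1) : y = 1 ∨ y = z ∨ y = z⁻¹ := by
  have : Finite S := Nat.finite_of_card_ne_zero (by omega)
  have h3 : z ^ 3 = 1 := by
    have := pow_card_eq_one' (x := (⟨z, hz⟩ : S))
    rw [hS] at this
    simpa using congrArg Subtype.val this
  have ho : orderOf z = 3 := orderOf_eq_prime h3 hz1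
  have hle : Subgroup.zpowers z ≤ S := by
    simpa using hz
  have heq : Subgroup.zpowers z = S := Subgroup.eq_of_le_of_card_ge hle (by rw [hS, Nat.card_zpowers, ho])
  rw [← heq] at hy
  obtain ⟨k, rfl⟩ := Subgroup.mem_zpowers_iff.1 hy
  rw [← zpow_mod_orderOf, ho]
  have hk0 : 0 ≤ k % ((3 : ℕ) : ℤ) := Int.emod_nonneg _ (by norm_num)
  have hk1 : k % ((3 : ℕ) : ℤ) < 3 := Int.emod_lt_of_pos _ (by norm_num)
  generalize k % ((3 : ℕ) : ℤ) = j at hk0 hk1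
  interval_cases j
  · left; simp
  · right; left; simp
  · right; right
    rw [eq_inv_iff_mul_eq_one]
    have : z ^ (2 : ℤ) * z = z ^ 3 := by
      rw [zpow_two, pow_succ, pow_two]
    rw [this, h3]

theorem comm_of_card_dvd_9 {G : Type*} [Group G] (S : Subgroup G) (h : Nat.card S ∣ 9) :
    ∀ x ∈ S, ∀ y ∈ S, x * y = y * x := by
  have h9 : (9 : ℕ) = 3 ^ 2 := by norm_num
  rw [h9] at h
  obtain ⟨k, hk, hc⟩ := (Nat.dvd_prime_pow Nat.prime_three).1 h
  have hfin : Finite S := Nat.finite_of_card_ne_zero (by rw [hc]; positivity)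
  have : Fact (Nat.Prime 3) := ⟨Nat.prime_three⟩
  have hcomm : IsMulCommutative S := by
    interval_cases k
    · have : Subsingleton S := by
        rw [pow_zero] at hc
        exact (Nat.card_eq_one_iff_unique.1 hc).1
      exact ⟨⟨fun a b => Subsingleton.elim _ _⟩⟩
    · rw [pow_one] at hc
      have := isCyclic_of_prime_card hc
      exact ⟨⟨fun a b => IsCyclic.commGroup.mul_comm a b⟩⟩
    · exact IsPGroup.isMulCommutative_of_card_eq_prime_sq (p := 3) hc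
  intro x hx y hy
  have := hcomm.is_comm.comm (⟨x, hx⟩ : S) ⟨y, hy⟩
  exact congrArg Subtype.val this

/-- The data of the problem (`t` is the involution lying over `-1`). -/
structure Setup (X : Type u) [Group X] where
  Q : Subgroup X
  Z : Subgroup X
  ρ : X →* SL23
  t : X
  hρs : Function.Surjective ρ
  hρk : ∀ x, ρ x = 1 ↔ x ∈ Q
  hQ27 : Nat.card Q = 27
  hexp : ∀ r ∈ Q, r ^ 3 = 1
  hZ : ∀ x, x ∈ Z ↔ x ∈ Q ∧ ∀ q ∈ Q, q * x = x * q
  hZ3 : Nat.card Z = 3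
  hcomm : ∀ x ∈ Q, ∀ y ∈ Q, x * y * x⁻¹ * y⁻¹ ∈ Z
  hO2 : ∀ s : X, s ^ 2 = 1 → (∀ g, g * s = s * g) → s = 1
  ht2 : t ^ 2 = 1
  hρt : ρ t = -1

namespace Setup

variable {X : Type u} [Group X] (D : Setup X)

theorem conj_mem {q : X} (hq : q ∈ D.Q) (g : X) : g * q * g⁻¹ ∈ D.Q := by
  rw [← D.hρk] at *
  simp [hq]

theorem Z_le_Q {z : X} (hz : z ∈ D.Z) : z ∈ D.Q := ((D.hZ z).1 hz).1

theorem Z_comm_Q {z q : X} (hz : z ∈ D.Z) (hq : q ∈ D.Q) : q * z = z * q := ((D.hZ z).1 hz).2 q hq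

theorem Z_conj {z : X} (hz : z ∈ D.Z) (g : X) : g * z * g⁻¹ ∈ D.Z := by
  rw [D.hZ]
  refine ⟨D.conj_mem (D.Z_le_Q hz) g, ?_⟩
  intro q hq
  have h := D.Z_comm_Q hz (D.conj_mem hq g⁻¹)
  rw [inv_inv] at h
  calc q * (g * z * g⁻¹) = g * (g⁻¹ * q * g * z) * g⁻¹ := by group
    _ = g * (z * (g⁻¹ * q * g)) * g⁻¹ := by rw [h]
    _ = g * z * g⁻¹ * q := by group

theorem Z_sq_comm {z : X} (hz : z ∈ D.Z) (h : X) : h ^ 2 * z = z * h ^ 2 := by
  by_cases hz1 : z = 1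
  · simp [hz1]
  have hne : h * z * h⁻¹ ≠ 1 := by
    intro h'
    apply hz1
    have : h * z = h := by
      rw [mul_inv_eq_one] at h'; exact h'
    simpa using this
  rcases mem_of_card3 D.Z D.hZ3 hz (D.Z_conj hz h) hz1 with h1 | h1 | h1
  · exact absurd h1 hne
  · have h2 : h * z = z * h := by
      rw [mul_inv_eq_iff_eq_mul] at h1; exact h1
    rw [pow_two, mul_assoc, h2, ← mul_assoc, h2, mul_assoc]
  · have h2 : h * z = z⁻¹ * h := by
      rw [mul_inv_eq_iff_eq_mul] at h1; exact h1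
    have h3 : h * z⁻¹ = z * h := by
      have : (h * z)⁻¹ = (z⁻¹ * h)⁻¹ := by rw [h2]
      rw [_root_.mul_inv_rev, _root_.mul_inv_rev, inv_inv] at this
      calc h * z⁻¹ = h * (z⁻¹ * h⁻¹) * h := by group
        _ = h * (h⁻¹ * z) * h := by rw [this]
        _ = z * h := by group
    rw [pow_two, mul_assoc, h2, ← mul_assoc, h3, mul_assoc]

/-- `Z` is central in `X`. -/
theorem Z_central {z : X} (hz : z ∈ D.Z) (g : X) : g * z = z * g := by
  obtain ⟨B, C, hBC⟩ := sl_sq2 (D.ρ g)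
  obtain ⟨h1, rfl⟩ := D.hρs B
  obtain ⟨h2, rfl⟩ := D.hρs C
  have hq : g * (h1 ^ 2 * h2 ^ 2)⁻¹ ∈ D.Q := by
    rw [← D.hρk]
    simp [hBC]
  have hg : g = (g * (h1 ^ 2 * h2 ^ 2)⁻¹) * (h1 ^ 2 * (h2 ^ 2)) := by group
  rw [hg]
  generalize g * (h1 ^ 2 * h2 ^ 2)⁻¹ = q at hq
  have e1 := D.Z_comm_Q hz hq
  have e2 := D.Z_sq_comm hz h1
  have e3 := D.Z_sq_comm hz h2
  rw [mul_assoc, mul_assoc, e3, ← mul_assoc (h1 ^ 2), e2, mul_assoc z, ← mul_assoc q, e1, mul_assoc]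

theorem t_inv : D.t⁻¹ = D.t := by
  have h := D.ht2
  rw [pow_two] at h
  exact inv_eq_of_mul_eq_one_left h

theorem t_mul_t : D.t * D.t = 1 := by
  have h := D.ht2
  rwa [pow_two] at h

theorem conj_t (g : X) : D.t * (g * D.t * g⁻¹) ∈ D.Q := by
  rw [← D.hρk]
  simp only [map_mul, map_inv, D.hρt]
  have := sl_neg_central (D.ρ g)
  calc (-1 : SL23) * (D.ρ g * -1 * (D.ρ g)⁻¹) = (-1) * ((-1) * D.ρ g * (D.ρ g)⁻¹) := by rw [this]
    _ = (-1) * (-1) := by group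
    _ = (-1) ^ 2 := by rw [pow_two]
    _ = 1 := sl_neg_sq

/-- The Frattini argument. -/
theorem frattini (g : X) : ∃ q ∈ D.Q, ∃ c : X, g = q * c ∧ c * D.t = D.t * c := by
  have hq := D.conj_t g
  set q := D.t * (g * D.t * g⁻¹) with hqdef
  have hgt : g * D.t * g⁻¹ = D.t * q := by
    rw [hqdef, ← mul_assoc, D.t_mul_t, one_mul]
  have hinv : (D.t * q) * (D.t * q) = 1 := by
    rw [← hgt]
    calc g * D.t * g⁻¹ * (g * D.t * g⁻¹) = g * (D.t * D.t) * g⁻¹ := by group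
      _ = 1 := by rw [D.t_mul_t]; group
  have h1 : D.t * q * D.t = q⁻¹ := by
    rw [eq_inv_iff_mul_eq_one]
    rw [mul_assoc] at hinv ⊢
    rw [mul_assoc]
    exact hinv
  have h3 : q ^ 3 = 1 := D.hexp q hq
  have h4 : q⁻¹ * q⁻¹ = q := by
    have : q * q * q = 1 := by rw [← h3, pow_succ, pow_two]
    calc q⁻¹ * q⁻¹ = q⁻¹ * q⁻¹ * 1 := by group
      _ = q⁻¹ * q⁻¹ * (q * q * q) := by rw [this]
      _ = q := by group
  have h5 : q * D.t * q⁻¹ = D.t * q := by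
    calc q * D.t * q⁻¹ = D.t * (D.t * q * D.t) * q⁻¹ := by
          rw [← mul_assoc, ← mul_assoc, D.t_mul_t, one_mul]
      _ = D.t * (q⁻¹ * q⁻¹) := by rw [h1]; group
      _ = D.t * q := by rw [h4]
  refine ⟨q, hq, q⁻¹ * g, by group, ?_⟩
  have h6 : g * D.t * g⁻¹ = q * D.t * q⁻¹ := by rw [hgt, h5]
  have h7 : q⁻¹ * (g * D.t * g⁻¹) * q = D.t := by
    rw [h6]; group
  calc q⁻¹ * g * D.t = q⁻¹ * (g * D.t * g⁻¹) * q * (q⁻¹ * g) := by group
    _ = D.t * (q⁻¹ * g) := by rw [h7]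

/-- `t` does not centralise `Q`. -/
theorem t_not_cent : ¬ ∀ q ∈ D.Q, D.t * q = q * D.t := by
  intro h
  have hcent : ∀ g, g * D.t = D.t * g := by
    intro g
    have hq := D.conj_t g
    set q := D.t * (g * D.t * g⁻¹) with hqdef
    have hgt : g * D.t * g⁻¹ = D.t * q := by
      rw [hqdef, ← mul_assoc, D.t_mul_t, one_mul]
    have hinv : (D.t * q) * (D.t * q) = 1 := by
      rw [← hgt]
      calc g * D.t * g⁻¹ * (g * D.t * g⁻¹) = g * (D.t * D.t) * g⁻¹ := by group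
        _ = 1 := by rw [D.t_mul_t]; group
    have h2 : q ^ 2 = 1 := by
      calc q ^ 2 = D.t * D.t * (q * q) := by rw [D.t_mul_t, one_mul, pow_two]
        _ = D.t * (D.t * q) * q := by group
        _ = D.t * (q * D.t) * q := by rw [h q hq]
        _ = (D.t * q) * (D.t * q) := by group
        _ = 1 := hinv
    have h3 := pow3_pow2 (D.hexp q hq) h2
    rw [h3, mul_one] at hgt
    exact mul_inv_eq_iff_eq_mul.1 hgt
  have := D.hO2 D.t D.ht2 hcent
  have h' := D.hρt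
  rw [this, map_one] at h'
  exact sl_neg_ne h'.symm

/-- `w` is inverted by `t`. -/
def IsInv (w : X) : Prop := w ∈ D.Q ∧ D.t * w * D.t = w⁻¹

/-- The decomposition `q = u w`. -/
theorem decomp0 {q : X} (hq : q ∈ D.Q) :
    ∃ u w : X, u ∈ D.Q ∧ D.t * u = u * D.t ∧ D.IsInv w ∧ q = u * w := by
  have htq : D.t * q⁻¹ * D.t ∈ D.Q := by
    have := D.conj_mem (D.Q.inv_mem hq) D.t
    rwa [D.t_inv] at this
  set s := D.t * q⁻¹ * D.t * q with hs
  have hsQ : s ∈ D.Q := D.Q.mul_mem htq hq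
  have hs3 : s ^ 3 = 1 := D.hexp s hsQ
  have hts : D.t * s * D.t = s⁻¹ := by
    rw [hs]
    calc D.t * (D.t * q⁻¹ * D.t * q) * D.t = (D.t * D.t) * q⁻¹ * D.t * q * D.t := by group
      _ = q⁻¹ * D.t * q * D.t := by rw [D.t_mul_t]; group
      _ = q⁻¹ * D.t⁻¹ * q * D.t⁻¹ := by rw [D.t_inv]
      _ = (D.t * q⁻¹ * D.t * q)⁻¹ := by group
  set w := s * s with hw
  have hwQ : w ∈ D.Q := D.Q.mul_mem hsQ hsQ
  have htw : D.t * w * D.t = w⁻¹ := by
    calc D.t * w * D.t = (D.t * s * D.t) * (D.t * s * D.t) := by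
          rw [hw]
          calc D.t * (s * s) * D.t = D.t * s * 1 * s * D.t := by group
            _ = D.t * s * (D.t * D.t) * s * D.t := by rw [D.t_mul_t]
            _ = _ := by group
      _ = w⁻¹ := by rw [hts, hw]; group
  have hww : w * w = s := by
    calc w * w = (s * s * s) * s := by rw [hw]; group
      _ = s ^ 3 * s := by rw [pow_succ s 2, pow_two]
      _ = s := by rw [hs3, one_mul]
  refine ⟨q * w⁻¹, w, D.Q.mul_mem hq (D.Q.inv_mem hwQ), ?_, ⟨hwQ, htw⟩, by group⟩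
  have h1 : (D.t * q * D.t) * s = q := by
    rw [hs]
    calc D.t * q * D.t * (D.t * q⁻¹ * D.t * q) = D.t * q * (D.t * D.t) * q⁻¹ * D.t * q := by group
      _ = D.t * q * 1 * q⁻¹ * D.t * q := by rw [D.t_mul_t]
      _ = (D.t * D.t) * q := by group
      _ = q := by rw [D.t_mul_t, one_mul]
  have h2 : (D.t * q * D.t) * w = q * w⁻¹ := by
    calc (D.t * q * D.t) * w = (D.t * q * D.t) * (w * w) * w⁻¹ := by group
      _ = q * w⁻¹ := by rw [hww, h1]
  have h3 : D.t * w⁻¹ * D.t = w := by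
    calc D.t * w⁻¹ * D.t = D.t⁻¹ * w⁻¹ * D.t⁻¹ := by rw [D.t_inv]
      _ = (D.t * w * D.t)⁻¹ := by group
      _ = w := by rw [htw, inv_inv]
  calc D.t * (q * w⁻¹) = D.t * q * (D.t * D.t) * w⁻¹ * (D.t * D.t) := by rw [D.t_mul_t]; group
    _ = (D.t * q * D.t) * (D.t * w⁻¹ * D.t) * D.t := by group
    _ = (D.t * q * D.t) * w * D.t := by rw [h3]
    _ = q * w⁻¹ * D.t := by rw [h2]

/-- An element of `Q` commuting with `t` commutes with every inverted element. -/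
theorem fix_comm_inv {x w : X} (hx : x ∈ D.Q) (htx : D.t * x = x * D.t) (hw : D.IsInv w) :
    x * w = w * x := by
  have hc := D.hcomm x hx w hw.1
  set c := x * w * x⁻¹ * w⁻¹ with hcdef
  have hcc := D.Z_central hc D.t
  have h3 : c ^ 3 = 1 := D.hexp c (D.Z_le_Q hc)
  have hxt : D.t * x * D.t = x := by rw [htx, mul_assoc, D.t_mul_t, mul_one]
  have hxit : D.t * x⁻¹ * D.t = x⁻¹ := by
    calc D.t * x⁻¹ * D.t = D.t⁻¹ * x⁻¹ * D.t⁻¹ := by rw [D.t_inv]
      _ = (D.t * x * D.t)⁻¹ := by group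
      _ = x⁻¹ := by rw [hxt]
  have hwit : D.t * w⁻¹ * D.t = w := by
    calc D.t * w⁻¹ * D.t = D.t⁻¹ * w⁻¹ * D.t⁻¹ := by rw [D.t_inv]
      _ = (D.t * w * D.t)⁻¹ := by group
      _ = w := by rw [hw.2, inv_inv]
  have e1 : D.t * c * D.t = c := by
    rw [hcc, mul_assoc, D.t_mul_t, mul_one]
  have e2 : D.t * c * D.t = x * w⁻¹ * x⁻¹ * w := by
    calc D.t * c * D.t = D.t * (x * 1 * w * 1 * x⁻¹ * 1 * w⁻¹) * D.t := by rw [hcdef]; group
      _ = D.t * (x * (D.t * D.t) * w * (D.t * D.t) * x⁻¹ * (D.t * D.t) * w⁻¹) * D.t := by rw [D.t_mul_t]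
      _ = (D.t * x * D.t) * (D.t * w * D.t) * (D.t * x⁻¹ * D.t) * (D.t * w⁻¹ * D.t) := by group
      _ = x * w⁻¹ * x⁻¹ * w := by rw [hxt, hw.2, hxit, hwit]
  have e3 : x * w⁻¹ * x⁻¹ * w = c := by rw [← e2, e1]
  have hcw := D.Z_central hc w
  have e4 : x * w * x⁻¹ = c * w := by rw [hcdef]; group
  have e5 : x * w⁻¹ * x⁻¹ = (c * w)⁻¹ := by rw [← e4]; group
  have e6 : c⁻¹ = c := by
    have hcw' : w⁻¹ * c⁻¹ * w = c⁻¹ := by
      have : w * c⁻¹ = c⁻¹ * w := by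
        rw [eq_inv_mul_iff_mul_eq, ← mul_assoc, ← hcw, mul_assoc, mul_inv_cancel, mul_one]
      rw [mul_assoc, ← this]; group
    calc c⁻¹ = w⁻¹ * c⁻¹ * w := hcw'.symm
      _ = (c * w)⁻¹ * w := by group
      _ = c := by rw [← e5, e3]
  have h2 : c ^ 2 = 1 := by
    rw [pow_two]
    nth_rw 1 [← e6]
    simp
  have hc1 := pow3_pow2 h3 h2
  rw [hcdef] at hc1
  have : x * w * x⁻¹ = w := by
    rwa [mul_inv_eq_one] at hc1
  rwa [mul_inv_eq_iff_eq_mul] at this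

/-- An element of `Q` commuting with `t` lies in `Z`. -/
theorem fix_mem_Z {x : X} (hx : x ∈ D.Q) (htx : D.t * x = x * D.t) : x ∈ D.Z := by
  classical
  let Cq : Subgroup X := D.Q ⊓ Subgroup.centralizer {D.t}
  have hfin : Finite D.Q := Nat.finite_of_card_ne_zero (by rw [D.hQ27]; norm_num)
  have hCqle : Cq ≤ D.Q := inf_le_left
  have hmem : ∀ y, y ∈ Cq ↔ y ∈ D.Q ∧ D.t * y = y * D.t := by
    intro y
    simp only [Cq, Subgroup.mem_inf, Subgroup.mem_centralizer_singleton_iff]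
    constructor
    · rintro ⟨h1, h2⟩
      exact ⟨h1, h2.symm⟩
    · rintro ⟨h1, h2⟩
      exact ⟨h1, h2.symm⟩
  have hne : Nat.card Cq ≠ 27 := by
    intro h
    have heq : Cq = D.Q := Subgroup.eq_of_le_of_card_ge hCqle (by rw [h, D.hQ27])
    apply D.t_not_cent
    intro q hq
    rw [← heq] at hq
    exact ((hmem q).1 hq).2
  have hdvd : Nat.card Cq ∣ 27 := by
    rw [← D.hQ27]
    exact Subgroup.card_dvd_of_le hCqle
  have h9 : Nat.card Cq ∣ 9 := by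
    have h27 : (27 : ℕ) = 3 ^ 3 := by norm_num
    rw [h27] at hdvd
    obtain ⟨k, hk, hc⟩ := (Nat.dvd_prime_pow Nat.prime_three).1 hdvd
    interval_cases k
    · rw [hc]; norm_num
    · rw [hc]; norm_num
    · rw [hc]; norm_num
    · exact absurd hc (by simpa using hne)
  have hcomm := comm_of_card_dvd_9 Cq h9
  rw [D.hZ]
  refine ⟨hx, ?_⟩
  intro q hq
  obtain ⟨u, w, hu, htu, hw, rfl⟩ := D.decomp0 hq
  have e1 := hcomm x ((hmem x).2 ⟨hx, htx⟩) u ((hmem u).2 ⟨hu, htu⟩)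
  have e2 := D.fix_comm_inv hx htx hw
  calc u * w * x = u * (w * x) := by group
    _ = u * (x * w) := by rw [e2]
    _ = (u * x) * w := by group
    _ = (x * u) * w := by rw [e1]
    _ = x * (u * w) := by group

/-- Decomposition `q = ζ w`. -/
theorem decomp {q : X} (hq : q ∈ D.Q) : ∃ u w : X, u ∈ D.Z ∧ D.IsInv w ∧ q = u * w := by
  obtain ⟨u, w, hu, htu, hw, rfl⟩ := D.decomp0 hq
  exact ⟨u, w, D.fix_mem_Z hu htu, hw, rfl⟩

theorem Z_t_conj {z : X} (hz : z ∈ D.Z) : D.t * z * D.t = z := by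
  rw [D.Z_central hz D.t, mul_assoc, D.t_mul_t, mul_one]

/-- Uniqueness of the inverted element in a coset. -/
theorem inv_unique {w ζ : X} (hw : D.IsInv w) (hζ : ζ ∈ D.Z) (hw' : D.IsInv (ζ * w)) : ζ = 1 := by
  have h1 : D.t * (ζ * w) * D.t = ζ * w⁻¹ := by
    calc D.t * (ζ * w) * D.t = (D.t * ζ) * w * D.t := by group
      _ = (ζ * D.t) * w * D.t := by rw [D.Z_central hζ D.t]
      _ = ζ * (D.t * w * D.t) := by group
      _ = ζ * w⁻¹ := by rw [hw.2]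
  have h2 := hw'.2
  rw [h1] at h2
  have hcw := D.Z_central hζ w
  have h3 : (ζ * w)⁻¹ = ζ⁻¹ * w⁻¹ := by
    have : w * ζ⁻¹ = ζ⁻¹ * w := by
      rw [eq_inv_mul_iff_mul_eq, ← mul_assoc, ← hcw, mul_assoc, mul_inv_cancel, mul_one]
    calc (ζ * w)⁻¹ = (w * ζ)⁻¹ := by rw [hcw]
      _ = ζ⁻¹ * w⁻¹ := by group
  rw [h3] at h2
  have h4 : ζ = ζ⁻¹ := mul_right_cancel h2
  have h5 : ζ ^ 2 = 1 := by
    rw [pow_two]
    nth_rw 1 [h4]
    simp
  exact pow3_pow2 (D.hexp ζ (D.Z_le_Q hζ)) h5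

theorem Q_not_le_Z : ¬ ∀ q ∈ D.Q, q ∈ D.Z := by
  intro h
  have hfin : Finite D.Z := Nat.finite_of_card_ne_zero (by rw [D.hZ3]; norm_num)
  have := Subgroup.card_le_of_le (H := D.Q) (K := D.Z) h
  rw [D.hQ27, D.hZ3] at this
  omega

/-- `C_X(Q) ≤ Q`. -/
theorem cent_le {g : X} (hg : ∀ q ∈ D.Q, g * q = q * g) : g ∈ D.Q := by
  by_contra hgQ
  have hA : D.ρ g ≠ 1 := fun h => hgQ ((D.hρk g).1 h)
  have hmul : ∀ x y : X, (∀ q ∈ D.Q, x * q = q * x) → (∀ q ∈ D.Q, y * q = q * y) →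
      ∀ q ∈ D.Q, (x * y) * q = q * (x * y) := by
    intro x y hx hy q hq
    rw [mul_assoc, hy q hq, ← mul_assoc, hx q hq, mul_assoc]
  have hinv : ∀ x : X, (∀ q ∈ D.Q, x * q = q * x) → ∀ q ∈ D.Q, x⁻¹ * q = q * x⁻¹ := by
    intro x hx q hq
    rw [inv_mul_eq_iff_eq_mul, ← mul_assoc, hx q hq]; group
  have hconj : ∀ x y : X, (∀ q ∈ D.Q, x * q = q * x) → ∀ q ∈ D.Q, (y * x * y⁻¹) * q = q * (y * x * y⁻¹) := by
    intro x y hx q hq
    have h := hx (y⁻¹ * q * y) (by simpa using D.conj_mem hq y⁻¹)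
    calc y * x * y⁻¹ * q = y * (x * (y⁻¹ * q * y)) * y⁻¹ := by group
      _ = y * ((y⁻¹ * q * y) * x) * y⁻¹ := by rw [h]
      _ = q * (y * x * y⁻¹) := by group
  have hsq : ∀ x : X, (∀ q ∈ D.Q, x * q = q * x) → ∀ q ∈ D.Q, x ^ 2 * q = q * x ^ 2 := by
    intro x hx
    rw [pow_two]
    exact hmul x x hx hx
  have hcube : ∀ x : X, (∀ q ∈ D.Q, x * q = q * x) → ∀ q ∈ D.Q, x ^ 3 * q = q * x ^ 3 := by
    intro x hx
    rw [pow_succ, pow_two]
    exact hmul _ x (hmul x x hx hx) hx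
  obtain ⟨h, hP, hρh⟩ : ∃ h : X, (∀ q ∈ D.Q, h * q = q * h) ∧ D.ρ h = -1 := by
    rcases sl_wordD _ hA with h1 | h1 | h1 | ⟨B, h1⟩
    · exact ⟨g, hg, h1⟩
    · exact ⟨g ^ 2, hsq g hg, by rw [map_pow, h1]⟩
    · exact ⟨g ^ 3, hcube g hg, by rw [map_pow, h1]⟩
    · obtain ⟨b, rfl⟩ := D.hρs B
      refine ⟨(g * (b * g⁻¹ * b⁻¹)) ^ 2, hsq _ (hmul _ _ hg (hconj _ _ (hinv g hg))), ?_⟩
      rw [map_pow]
      rw [← h1]
      simp [mul_assoc]
  have hq1 : D.t * h ∈ D.Q := by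
    rw [← D.hρk]
    simp only [map_mul, D.hρt, hρh]
    rw [← pow_two]
    exact sl_neg_sq
  set q₁ := D.t * h with hq₁
  have hh : h = D.t * q₁ := by
    rw [hq₁, ← mul_assoc, D.t_mul_t, one_mul]
  have hallZ : ∀ w, D.IsInv w → w ∈ D.Z := by
    intro w hw
    have hζ := D.hcomm q₁ hq1 w hw.1
    set ζ := q₁ * w * q₁⁻¹ * w⁻¹ with hζdef
    have e1 : q₁ * w * q₁⁻¹ = ζ * w := by rw [hζdef]; group
    have e2 : h * w * h⁻¹ = w := by
      rw [hP w hw.1]; group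
    have e3 : h * w * h⁻¹ = D.t * (ζ * w) * D.t := by
      rw [hh]
      calc D.t * q₁ * w * (D.t * q₁)⁻¹ = D.t * (q₁ * w * q₁⁻¹) * D.t⁻¹ := by group
        _ = D.t * (ζ * w) * D.t := by rw [e1, D.t_inv]
    have e4 : D.t * (ζ * w) * D.t = ζ * w⁻¹ := by
      calc D.t * (ζ * w) * D.t = (D.t * ζ) * w * D.t := by group
        _ = (ζ * D.t) * w * D.t := by rw [D.Z_central hζ D.t]
        _ = ζ * (D.t * w * D.t) := by group
        _ = ζ * w⁻¹ := by rw [hw.2]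
    have e5 : w * w = ζ := by
      have : w = ζ * w⁻¹ := by rw [← e4, ← e3, e2]
      calc w * w = (ζ * w⁻¹) * w := by nth_rw 1 [this]
        _ = ζ := by group
    have hw3 : w * w * w = 1 := by
      have := D.hexp w hw.1
      rwa [pow_succ, pow_two] at this
    have e6 : w = ζ * ζ := by
      rw [← e5]
      calc w = (w * w * w) * w := by rw [hw3, one_mul]
        _ = w * w * (w * w) := by group
    rw [e6]
    exact D.Z.mul_mem hζ hζ
  apply D.Q_not_le_Z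
  intro q hq
  obtain ⟨u, w, hu, hw, rfl⟩ := D.decomp hq
  exact D.Z.mul_mem hu (hallZ w hw)

/-- Two inverted elements which do not commute. -/
theorem exists_ab : ∃ a b : X, D.IsInv a ∧ D.IsInv b ∧ a * b ≠ b * a := by
  by_contra hcon
  push Not at hcon
  apply D.Q_not_le_Z
  intro q hq
  rw [D.hZ]
  refine ⟨hq, ?_⟩
  intro q' hq'
  obtain ⟨u, w, hu, hw, rfl⟩ := D.decomp hq
  obtain ⟨u', w', hu', hw', rfl⟩ := D.decomp hq'
  have e1 := D.Z_central hu
  have e2 := D.Z_central hu'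
  have e3 := hcon w' w hw' hw
  calc u' * w' * (u * w) = u' * (w' * u) * w := by group
    _ = u' * (u * w') * w := by rw [e1 w']
    _ = (u' * u) * (w' * w) := by group
    _ = (u * u') * (w * w') := by rw [e3, ← e1 u']
    _ = u * (u' * w) * w' := by group
    _ = u * (w * u') * w' := by rw [e2 w]
    _ = u * w * (u' * w') := by group

section E
variable [Finite X]

/-- The element `n` produced from the hypothesis on `E`. -/
theorem exists_n (hE : ∃ E : Subgroup X, IsMulCommutative E ∧ (∀ a ∈ E, a ^ 3 = 1) ∧ Nat.card E = 27) :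
    ∃ n : X, n * D.t = D.t * n ∧ n ^ 3 = 1 ∧ n ∉ D.Q := by
  classical
  obtain ⟨E, hEc, hE3, hE27⟩ := hE
  have hEcomm : ∀ x ∈ E, ∀ y ∈ E, x * y = y * x := by
    intro x hx y hy
    exact congrArg Subtype.val (hEc.is_comm.comm (⟨x, hx⟩ : E) ⟨y, hy⟩)
  -- `y ∈ E \ Q`
  obtain ⟨y, hyE, hyQ⟩ : ∃ y ∈ E, y ∉ D.Q := by
    by_contra hcon
    push Not at hcon
    have hEQ : E = D.Q := Subgroup.eq_of_le_of_card_ge hcon (by rw [hE27, D.hQ27])
    apply D.Q_not_le_Z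
    intro q hq
    rw [D.hZ]
    refine ⟨hq, ?_⟩
    intro q' hq'
    rw [← hEQ] at hq hq'
    exact hEcomm q' hq' q hq
  -- `|E ∩ Q| ≥ 9`
  let S : Subgroup X := D.Q ⊓ E
  have hS9 : 9 ≤ Nat.card S := by
    let f : E →* SL23 := D.ρ.comp E.subtype
    have hker : f.ker = D.Q.subgroupOf E := by
      ext x
      simp only [MonoidHom.mem_ker, f, MonoidHom.comp_apply, Subgroup.mem_subgroupOf, Subgroup.subtype_apply]
      exact D.hρk _
    have h1 : Nat.card f.ker * Nat.card f.range = 27 := by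
      rw [← Subgroup.index_ker, Subgroup.card_mul_index, hE27]
    have h2 : Nat.card f.range ∣ 24 := by
      have := Subgroup.card_subgroup_dvd_card f.range
      rwa [Nat.card_eq_fintype_card (α := SL23), sl_card] at this
    have h3 : Nat.card f.range ∣ 27 := ⟨_, by rw [← h1, mul_comm]⟩
    have h4 : Nat.card f.range ∣ 3 := by
      have h := Nat.dvd_gcd h2 h3
      have hg : Nat.gcd 24 27 = 3 := by norm_num
      rwa [hg] at h
    have h5 : Nat.card f.range ≤ 3 := Nat.le_of_dvd (by norm_num) h4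
    have h6 : Nat.card S = Nat.card f.ker := by
      rw [hker]
      have : S = (D.Q.subgroupOf E).map E.subtype := by
        rw [Subgroup.subgroupOf_map_subtype]
      rw [this]
      exact Subgroup.card_map_of_injective E.subtype_injective
    rw [h6]
    by_contra hcon
    push Not at hcon
    have : Nat.card f.ker * Nat.card f.range ≤ 8 * 3 := Nat.mul_le_mul (by omega) h5
    omega
  -- `w' ∈ E ∩ Q` outside `Z`
  obtain ⟨w', hw'S, hw'Z⟩ : ∃ w' ∈ S, w' ∉ D.Z := by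
    by_contra hcon
    push Not at hcon
    have hfin : Finite D.Z := Nat.finite_of_card_ne_zero (by rw [D.hZ3]; norm_num)
    have := Subgroup.card_le_of_le (H := S) (K := D.Z) hcon
    rw [D.hZ3] at this
    omega
  have hw'Q : w' ∈ D.Q := hw'S.1
  have hw'E : w' ∈ E := hw'S.2
  obtain ⟨u, w, hu, hw, rfl⟩ := D.decomp hw'Q
  have hwZ : w ∉ D.Z := fun h => hw'Z (D.Z.mul_mem hu h)
  -- anything commuting with `u w` commutes with `w`
  have hcomm_w : ∀ g, g * (u * w) = (u * w) * g → g * w = w * g := by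
    intro g hg
    have h1 := D.Z_central hu g
    have h2 : u * (g * w) = u * (w * g) := by
      calc u * (g * w) = (u * g) * w := by group
        _ = (g * u) * w := by rw [h1]
        _ = g * (u * w) := by group
        _ = u * w * g := hg
        _ = u * (w * g) := by group
    exact mul_left_cancel h2
  obtain ⟨a, haQ, n, rfl, hnt⟩ := D.frattini y
  have hyw := hcomm_w _ (hEcomm _ hyE _ hw'E)
  -- `w₁ = n w n⁻¹` is inverted
  have htn : D.t * n⁻¹ = n⁻¹ * D.t := by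
    rw [eq_inv_mul_iff_mul_eq, ← mul_assoc, hnt, mul_assoc, mul_inv_cancel, mul_one]
  have hw1 : D.IsInv (n * w * n⁻¹) := by
    refine ⟨D.conj_mem hw.1 n, ?_⟩
    calc D.t * (n * w * n⁻¹) * D.t = (D.t * n) * w * (n⁻¹ * D.t) := by group
      _ = (n * D.t) * w * (D.t * n⁻¹) := by rw [← hnt, htn]
      _ = n * (D.t * w * D.t) * n⁻¹ := by group
      _ = (n * w * n⁻¹)⁻¹ := by rw [hw.2]; group
  have e1 : a * (n * w * n⁻¹) * a⁻¹ = w := by
    calc a * (n * w * n⁻¹) * a⁻¹ = (a * n) * w * (a * n)⁻¹ := by group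
      _ = w * (a * n) * (a * n)⁻¹ := by rw [hyw]
      _ = w := by group
  have hζ := D.hcomm a⁻¹ (D.Q.inv_mem haQ) w hw.1
  have e2 : n * w * n⁻¹ = (a⁻¹ * w * a⁻¹⁻¹ * w⁻¹) * w := by
    rw [inv_inv]
    calc n * w * n⁻¹ = a⁻¹ * (a * (n * w * n⁻¹) * a⁻¹) * a := by group
      _ = a⁻¹ * w * a := by rw [e1]
      _ = _ := by group
  have hζ1 : a⁻¹ * w * a⁻¹⁻¹ * w⁻¹ = 1 := D.inv_unique hw hζ (by rw [← e2]; exact hw1)
  have e3 : n * w * n⁻¹ = w := by rw [e2, hζ1, one_mul]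
  have e4 : a * w * a⁻¹ = w := by
    rw [e3] at e1; exact e1
  -- `a ∈ E`
  let Cw : Subgroup X := D.Q ⊓ Subgroup.centralizer {w}
  have hCwle : Cw ≤ D.Q := inf_le_left
  have hCwmem : ∀ g, g ∈ Cw ↔ g ∈ D.Q ∧ g * w = w * g := by
    intro g
    simp only [Cw, Subgroup.mem_inf, Subgroup.mem_centralizer_singleton_iff]
  have hCw9 : Nat.card Cw ≤ 9 := by
    have hne : Nat.card Cw ≠ 27 := by
      intro h
      have heq : Cw = D.Q := Subgroup.eq_of_le_of_card_ge hCwle (by rw [h, D.hQ27])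
      apply hwZ
      rw [D.hZ]
      refine ⟨hw.1, ?_⟩
      intro q hq
      rw [← heq] at hq
      exact ((hCwmem q).1 hq).2
    have hdvd : Nat.card Cw ∣ 27 := by
      rw [← D.hQ27]
      exact Subgroup.card_dvd_of_le hCwle
    have h27 : (27 : ℕ) = 3 ^ 3 := by norm_num
    rw [h27] at hdvd
    obtain ⟨k, hk, hc⟩ := (Nat.dvd_prime_pow Nat.prime_three).1 hdvd
    interval_cases k
    · rw [hc]; norm_num
    · rw [hc]; norm_num
    · rw [hc]; norm_num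
    · exact absurd hc (by simpa using hne)
  have hSCw : S ≤ Cw := by
    intro g hg
    rw [hCwmem]
    exact ⟨hg.1, hcomm_w g (hEcomm _ hg.2 _ hw'E)⟩
  have hSeq : S = Cw := Subgroup.eq_of_le_of_card_ge hSCw (by omega)
  have haE : a ∈ E := by
    have : a ∈ Cw := by
      rw [hCwmem]
      exact ⟨haQ, by rwa [mul_inv_eq_iff_eq_mul] at e4⟩
    rw [← hSeq] at this
    exact this.2
  have hnE : n = a⁻¹ * (a * n) := by group
  have hcomm_an : Commute a⁻¹ (a * n) := (show Commute a (a * n) from hEcomm _ haE _ hyE).inv_left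
  refine ⟨n, hnt, ?_, ?_⟩
  · rw [hnE, hcomm_an.mul_pow, hE3 _ hyE, mul_one, inv_pow, D.hexp a haQ, inv_one]
  · intro hnQ
    exact hyQ (D.Q.mul_mem haQ hnQ)

/-- The Sylow `2`-subgroup `R` of `C_X(t)`. -/
theorem exists_R : ∃ R : Subgroup X, (∀ r ∈ R, r ^ 8 = 1) ∧ (∀ r ∈ R, r * D.t = D.t * r) ∧
    (∀ A : SL23, A ^ 8 = 1 → ∃ r ∈ R, D.ρ r = A) ∧
    (∀ g, g * D.t = D.t * g → ∀ r ∈ R, g * r * g⁻¹ ∈ R) := by
  classical
  let C : Subgroup X := Subgroup.centralizer {D.t}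
  have hCmem : ∀ g, g ∈ C ↔ g * D.t = D.t * g := by
    intro g
    simp only [C, Subgroup.mem_centralizer_singleton_iff]
  have hρC : Function.Surjective (D.ρ.comp C.subtype) := by
    intro A
    obtain ⟨g, rfl⟩ := D.hρs A
    obtain ⟨q, hq, c, rfl, hc⟩ := D.frattini g
    refine ⟨⟨c, (hCmem c).2 hc⟩, ?_⟩
    simp [(D.hρk q).2 hq]
  have h24 : 24 ∣ Nat.card C := by
    have := Subgroup.card_dvd_of_surjective _ hρC
    rwa [Nat.card_eq_fintype_card (α := SL23), sl_card] at this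
  have h8 : 2 ^ 3 ∣ Nat.card C := dvd_trans (by norm_num) h24
  haveI : Fact (Nat.Prime 2) := ⟨Nat.prime_two⟩
  obtain ⟨K, hK⟩ := Sylow.exists_subgroup_card_pow_prime 2 h8
  let R : Subgroup X := K.map C.subtype
  have hR8 : Nat.card R = 8 := by
    have : Nat.card R = Nat.card K := Subgroup.card_map_of_injective C.subtype_injective
    rw [this, hK]; norm_num
  have hRC : ∀ r ∈ R, r ∈ C := by
    rintro r ⟨k, _, rfl⟩
    exact k.2
  have hr8 : ∀ r ∈ R, r ^ 8 = 1 := by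
    intro r hr
    have := pow_card_eq_one' (x := (⟨r, hr⟩ : R))
    rw [hR8] at this
    simpa using congrArg Subtype.val this
  have hinj : ∀ r ∈ R, D.ρ r = 1 → r = 1 := by
    intro r hr h1
    exact pow3_pow8 (D.hexp r ((D.hρk r).1 h1)) (hr8 r hr)
  have hsurj : ∀ A : SL23, A ^ 8 = 1 → ∃ r ∈ R, D.ρ r = A := by
    let T8 := {A : SL23 // A ^ 8 = 1}
    have hT8 : Nat.card T8 = 8 := by
      rw [Nat.card_eq_fintype_card, Fintype.card_subtype]
      exact sl_cardT8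
    let φ : R → T8 := fun r => ⟨D.ρ r, by rw [← map_pow, hr8 r r.2, map_one]⟩
    have hφ : Function.Injective φ := by
      intro r r' h
      have h1 : D.ρ (r.1 * r'.1⁻¹) = 1 := by
        have h2 : D.ρ r.1 = D.ρ r'.1 := congrArg Subtype.val h
        simp [h2]
      have h3 := hinj _ (R.mul_mem r.2 (R.inv_mem r'.2)) h1
      apply Subtype.ext
      exact mul_inv_eq_one.1 h3
    have hfinT : Finite T8 := inferInstance
    have hb : Function.Bijective φ := hφ.bijective_of_nat_card_le (by rw [hT8, hR8])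
    intro A hA
    obtain ⟨r, hr⟩ := hb.2 ⟨A, hA⟩
    exact ⟨r.1, r.2, congrArg Subtype.val hr⟩
  refine ⟨R, hr8, fun r hr => (hCmem r).1 (hRC r hr), hsurj, ?_⟩
  intro g hg r hr
  have hgrg : (D.ρ (g * r * g⁻¹)) ^ 8 = 1 := by
    rw [← map_pow]
    have : (g * r * g⁻¹) ^ 8 = g * r ^ 8 * g⁻¹ := by
      exact conj_pow
    rw [this, hr8 r hr]
    simp
  obtain ⟨r', hr', hρr'⟩ := hsurj _ hgrg
  have hζQ : g * r * g⁻¹ * r'⁻¹ ∈ D.Q := by
    rw [← D.hρk]
    rw [map_mul, map_inv, hρr']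
    simp
  have hζC : D.t * (g * r * g⁻¹ * r'⁻¹) = (g * r * g⁻¹ * r'⁻¹) * D.t := by
    have hm : g * r * g⁻¹ * r'⁻¹ ∈ C :=
      C.mul_mem (C.mul_mem (C.mul_mem ((hCmem g).2 hg) (hRC r hr)) (C.inv_mem ((hCmem g).2 hg)))
        (C.inv_mem (hRC r' hr'))
    exact ((hCmem _).1 hm).symm
  have hζZ := D.fix_mem_Z hζQ hζC
  set ζ := g * r * g⁻¹ * r'⁻¹ with hζdef
  have e1 : g * r * g⁻¹ = ζ * r' := by rw [hζdef]; group
  have hc : Commute ζ r' := (D.Z_central hζZ r').symm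
  have e2 : ζ ^ 8 = 1 := by
    have h1 : (ζ * r') ^ 8 = 1 := by
      rw [← e1]
      have : (g * r * g⁻¹) ^ 8 = g * r ^ 8 * g⁻¹ := conj_pow
      rw [this, hr8 r hr]
      simp
    rw [hc.mul_pow, hr8 r' hr', mul_one] at h1
    exact h1
  have e3 := pow3_pow8 (D.hexp ζ (D.Z_le_Q hζZ)) e2
  rw [e1, e3, one_mul]
  exact hr'

end E

/-- The complement `L`. -/
theorem exists_L (R : Subgroup X) (hR8 : ∀ r ∈ R, r ^ 8 = 1) (hRt : ∀ r ∈ R, r * D.t = D.t * r)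
    (hRs : ∀ A : SL23, A ^ 8 = 1 → ∃ r ∈ R, D.ρ r = A)
    (hRn : ∀ g, g * D.t = D.t * g → ∀ r ∈ R, g * r * g⁻¹ ∈ R)
    {n : X} (hnt : n * D.t = D.t * n) (hn3 : n ^ 3 = 1) (hnQ : n ∉ D.Q) :
    ∃ L : Subgroup X, (∀ l ∈ L, l * D.t = D.t * l) ∧ Function.Bijective (D.ρ.comp L.subtype) := by
  have hnk : ∀ k : ℕ, n ^ k * D.t = D.t * n ^ k := fun k => (Commute.pow_left hnt k)
  let L : Subgroup X :=
    { carrier := {g | ∃ r ∈ R, ∃ k : ℕ, g = r * n ^ k}
      one_mem' := ⟨1, R.one_mem, 0, by simp⟩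
      mul_mem' := by
        rintro _ _ ⟨r, hr, j, rfl⟩ ⟨r', hr', k, rfl⟩
        refine ⟨r * (n ^ j * r' * (n ^ j)⁻¹), R.mul_mem hr (hRn _ (hnk j) r' hr'), j + k, ?_⟩
        rw [pow_add]
        group
      inv_mem' := by
        rintro _ ⟨r, hr, k, rfl⟩
        refine ⟨n ^ (2 * k) * r⁻¹ * (n ^ (2 * k))⁻¹, hRn _ (hnk _) _ (R.inv_mem hr), 2 * k, ?_⟩
        have h1 : (n ^ k)⁻¹ = n ^ (2 * k) := by
          rw [inv_eq_iff_mul_eq_one, ← pow_add]
          have : k + 2 * k = 3 * k := by ring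
          rw [this, pow_mul, hn3, one_pow]
        rw [_root_.mul_inv_rev, h1]
        group }
  have hLmem : ∀ g, g ∈ L ↔ ∃ r ∈ R, ∃ k : ℕ, g = r * n ^ k := fun g => Iff.rfl
  have hLt : ∀ l ∈ L, l * D.t = D.t * l := by
    rintro _ ⟨r, hr, k, rfl⟩
    rw [mul_assoc, hnk k, ← mul_assoc, hRt r hr, mul_assoc]
  refine ⟨L, hLt, ?_, ?_⟩
  · rw [injective_iff_map_eq_one]
    rintro ⟨l, hl⟩ h1
    have hlQ : l ∈ D.Q := (D.hρk l).1 h1
    have hlZ : l ∈ D.Z := D.fix_mem_Z hlQ (hLt l hl).symm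
    obtain ⟨r, hr, k, hlr⟩ := hl
    apply Subtype.ext
    change l = 1
    have hr1 : r = l * (n ^ k)⁻¹ := by rw [hlr]; group
    have hc : Commute l (n ^ k)⁻¹ := (D.Z_central hlZ _).symm
    have hr3 : r ^ 3 = 1 := by
      rw [hr1, hc.mul_pow, D.hexp l hlQ, one_mul, inv_pow, ← pow_mul, mul_comm, pow_mul, hn3, one_pow, inv_one]
    have hr11 := pow3_pow8 hr3 (hR8 r hr)
    rw [hr11, one_mul] at hlr
    have hmod : k = 3 * (k / 3) + k % 3 := (Nat.div_add_mod k 3).symm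
    have hnk' : n ^ k = n ^ (k % 3) := by
      rw [hmod, pow_add, pow_mul, hn3, one_pow, one_mul]
      simp
    have hk3 : k % 3 < 3 := Nat.mod_lt _ (by norm_num)
    rw [hnk'] at hlr
    generalize k % 3 = j at hlr hk3
    rw [hlr] at hlQ ⊢
    interval_cases j
    · simp
    · exact absurd (by simpa using hlQ) hnQ
    · exfalso
      apply hnQ
      have : n = (n ^ 2) * (n ^ 2) * (n ^ 3)⁻¹ := by
        simp only [pow_succ, pow_zero, one_mul]; group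
      rw [this, hn3, inv_one, mul_one]
      exact D.Q.mul_mem hlQ hlQ
  · intro B
    have hA3 : (D.ρ n) ^ 3 = 1 := by rw [← map_pow, hn3, map_one]
    have hA1 : D.ρ n ≠ 1 := fun h => hnQ ((D.hρk n).1 h)
    rcases sl_surjT (D.ρ n) B hA3 hA1 with h | h | h
    · obtain ⟨r, hr, hrB⟩ := hRs B h
      exact ⟨⟨r, r, hr, 0, by simp⟩, hrB⟩
    · obtain ⟨r, hr, hrB⟩ := hRs _ h
      refine ⟨⟨r * n ^ 1, r, hr, 1, rfl⟩, ?_⟩
      change D.ρ (r * n ^ 1) = B
      rw [map_mul, hrB, map_pow, pow_one]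
      group
    · obtain ⟨r, hr, hrB⟩ := hRs _ h
      refine ⟨⟨r * n ^ 2, r, hr, 2, rfl⟩, ?_⟩
      change D.ρ (r * n ^ 2) = B
      rw [map_mul, hrB, map_pow]
      group

end Setup

/-! ### The Heisenberg coordinates -/

section pw

variable {X : Type u} [Group X]

/-- Powers with exponent in `ZMod 3`. -/
def pw (x : X) (s : ZMod 3) : X := x ^ s.val

theorem pw_add {x : X} (hx : x ^ 3 = 1) (s s' : ZMod 3) : pw x (s + s') = pw x s * pw x s' := by
  unfold pw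
  rw [ZMod.val_add, ← pow_eq_pow_mod _ hx, pow_add]

@[simp] theorem pw_zero (x : X) : pw x 0 = 1 := by
  simp [pw]

theorem pw_one (x : X) : pw x 1 = x := by
  have : (1 : ZMod 3).val = 1 := rfl
  simp [pw, this]

theorem pw_neg {x : X} (hx : x ^ 3 = 1) (s : ZMod 3) : pw x (-s) = (pw x s)⁻¹ := by
  rw [eq_inv_iff_mul_eq_one, ← pw_add hx]
  simp

theorem pow_comm_aux {a b z : X} (hz : ∀ g, g * z = z * g) (hba : b * a = z * a * b) (i j : ℕ) :
    b ^ i * a ^ j = z ^ (i * j) * a ^ j * b ^ i := by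
  have hzp : ∀ (k : ℕ) (g : X), g * z ^ k = z ^ k * g := fun k g => (Commute.pow_right (hz g) k)
  have h1 : ∀ j : ℕ, b * a ^ j = z ^ j * a ^ j * b := by
    intro j
    induction j with
    | zero => simp
    | succ j ih =>
      calc b * a ^ (j + 1) = (b * a ^ j) * a := by rw [pow_succ]; group
        _ = z ^ j * a ^ j * b * a := by rw [ih]
        _ = z ^ j * a ^ j * (b * a) := by group
        _ = z ^ j * a ^ j * (z * a * b) := by rw [hba]
        _ = z ^ j * (a ^ j * z) * a * b := by group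
        _ = z ^ j * (z * a ^ j) * a * b := by rw [hz]
        _ = z ^ (j + 1) * a ^ (j + 1) * b := by rw [pow_succ z, pow_succ a]; group
  induction i with
  | zero => simp
  | succ i ih =>
    calc b ^ (i + 1) * a ^ j = b ^ i * (b * a ^ j) := by rw [pow_succ]; group
      _ = b ^ i * (z ^ j * a ^ j * b) := by rw [h1]
      _ = (b ^ i * z ^ j) * a ^ j * b := by group
      _ = (z ^ j * b ^ i) * a ^ j * b := by rw [hzp]
      _ = z ^ j * (b ^ i * a ^ j) * b := by group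
      _ = z ^ j * (z ^ (i * j) * a ^ j * b ^ i) * b := by rw [ih]
      _ = z ^ ((i + 1) * j) * a ^ j * b ^ (i + 1) := by
        rw [add_mul, one_mul, add_comm (i * j), pow_add z, pow_succ b]; group

theorem pw_comm {a b z : X} (hz3 : z ^ 3 = 1) (hz : ∀ g, g * z = z * g) (hba : b * a = z * a * b)
    (u s : ZMod 3) : pw b u * pw a s = pw z (u * s) * pw a s * pw b u := by
  unfold pw
  rw [pow_comm_aux hz hba, ZMod.val_mul, ← pow_eq_pow_mod _ hz3]

theorem pw_central {z : X} (hz : ∀ g, g * z = z * g) (s : ZMod 3) (g : X) : g * pw z s = pw z s * g :=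
  Commute.pow_right (hz g) _

theorem pw_eq_one {z : X} (hz3 : z ^ 3 = 1) (hz1 : z ≠ 1) {s : ZMod 3} (h : pw z s = 1) : s = 0 := by
  revert h
  have h2 : z ^ 2 ≠ 1 := fun h => hz1 (pow3_pow2 hz3 h)
  fin_cases s
  · intro _; rfl
  · intro h
    exfalso
    apply hz1
    simpa [pw, ZMod.val] using h
  · intro h
    exfalso
    apply h2
    simpa [pw, ZMod.val] using h

/-- Relations of the Heisenberg group. -/
structure Heis (X : Type u) [Group X] where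
  a : X
  b : X
  z : X
  ha3 : a ^ 3 = 1
  hb3 : b ^ 3 = 1
  hz3 : z ^ 3 = 1
  hz1 : z ≠ 1
  hzc : ∀ g, g * z = z * g
  hba : b * a = z * a * b

namespace Heis

variable (H : Heis X)

/-- The coordinate map. -/
def Θ (v : Fin 2 → ZMod 3) (r : ZMod 3) : X :=
  pw H.a (v 0) * pw H.b (v 1) * pw H.z (r - v 0 * v 1)

theorem Θ_mul (v w : Fin 2 → ZMod 3) (r s : ZMod 3) :
    H.Θ v r * H.Θ w s = H.Θ (v + w) (r + s + dt v w) := by
  unfold Θ
  have hc := pw_central H.hzc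
  have hcomm := pw_comm H.hz3 H.hzc H.hba (v 1) (w 0)
  have hexp : r + s + dt v w - (v + w) 0 * (v + w) 1 =
      (v 1 * w 0) + ((r - v 0 * v 1) + (s - w 0 * w 1)) := by
    have h3 : (3 : ZMod 3) = 0 := by decide
    simp only [dt, Pi.add_apply]
    linear_combination (-(v 1 * w 0)) * h3
  rw [hexp, pw_add H.hz3, pw_add H.hz3, Pi.add_apply, Pi.add_apply, pw_add H.ha3, pw_add H.hb3]
  have e1 := hc (r - v 0 * v 1) (pw H.a (w 0))
  have e2 := hc (r - v 0 * v 1) (pw H.b (w 1))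
  have e3 := hc (v 1 * w 0) (pw H.a (v 0))
  have e4 := hc (v 1 * w 0) (pw H.a (v 0) * pw H.a (w 0) * pw H.b (v 1) * pw H.b (w 1))
  generalize pw H.z (r - v 0 * v 1) = C1 at *
  generalize pw H.z (s - w 0 * w 1) = C2 at *
  generalize pw H.z (v 1 * w 0) = Zvw at *
  generalize pw H.a (v 0) = A1 at *
  generalize pw H.a (w 0) = A2 at *
  generalize pw H.b (v 1) = B1 at *
  generalize pw H.b (w 1) = B2 at *
  calc A1 * B1 * C1 * (A2 * B2 * C2) = A1 * B1 * (C1 * A2) * B2 * C2 := by group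
    _ = A1 * B1 * (A2 * C1) * B2 * C2 := by rw [← e1]
    _ = A1 * (B1 * A2) * (C1 * B2) * C2 := by group
    _ = A1 * (Zvw * A2 * B1) * (B2 * C1) * C2 := by rw [hcomm, ← e2]
    _ = (A1 * Zvw) * A2 * B1 * B2 * C1 * C2 := by group
    _ = (Zvw * A1) * A2 * B1 * B2 * C1 * C2 := by rw [e3]
    _ = (Zvw * (A1 * A2 * B1 * B2)) * C1 * C2 := by group
    _ = ((A1 * A2 * B1 * B2) * Zvw) * C1 * C2 := by rw [e4]
    _ = A1 * A2 * (B1 * B2) * (Zvw * (C1 * C2)) := by group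

theorem Θ_zero (r : ZMod 3) : H.Θ 0 r = pw H.z r := by
  simp [Θ]

theorem Θ_zero_zero : H.Θ 0 0 = 1 := by
  simp [Θ]

theorem Θ_eq (v : Fin 2 → ZMod 3) (r : ZMod 3) : H.Θ v r = H.Θ v 0 * pw H.z r := by
  rw [← Θ_zero, Θ_mul]
  simp [dt]

theorem Θ_inv (v : Fin 2 → ZMod 3) (r : ZMod 3) : (H.Θ v r)⁻¹ = H.Θ (-v) (-r) := by
  rw [inv_eq_iff_mul_eq_one, Θ_mul]
  simp [dt]
  ring_nf
  exact Θ_zero_zero H

/-- The kernel is trivial. -/
theorem Θ_eq_one {v : Fin 2 → ZMod 3} {r : ZMod 3} (h : H.Θ v r = 1) : v = 0 ∧ r = 0 := by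
  have key : ∀ w : Fin 2 → ZMod 3, dt v w = 0 := by
    intro w
    have e1 := H.Θ_mul v w r 0
    have e2 := H.Θ_mul w v 0 r
    rw [h, one_mul] at e1
    rw [h, mul_one] at e2
    have e3 : H.Θ (v + w) (r + 0 + dt v w) = H.Θ (w + v) (0 + r + dt w v) := by
      rw [← e1, ← e2]
    rw [add_comm w v, Θ_eq H _ (r + 0 + dt v w), Θ_eq H _ (0 + r + dt w v)] at e3
    have e4 := mul_left_cancel e3
    have e5 : pw H.z (r + 0 + dt v w - (0 + r + dt w v)) = 1 := by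
      have : r + 0 + dt v w = (r + 0 + dt v w - (0 + r + dt w v)) + (0 + r + dt w v) := by ring
      rw [this, pw_add H.hz3] at e4
      exact mul_right_cancel (e4.trans (one_mul _).symm)
    have e6 := pw_eq_one H.hz3 H.hz1 e5
    have e7 : (2 : ZMod 3) * dt v w = 0 := by
      have : dt w v = - dt v w := by simp only [dt]; ring
      rw [this] at e6
      linear_combination e6
    have h2 : ∀ x : ZMod 3, 2 * x = 0 → x = 0 := by decide
    exact h2 _ e7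
  have hv : v = 0 := by
    funext i
    fin_cases i
    · have := key ![0, 1]
      simpa [dt] using this
    · have := key ![1, 0]
      simpa [dt] using this
  subst hv
  refine ⟨rfl, ?_⟩
  rw [Θ_zero] at h
  exact pw_eq_one H.hz3 H.hz1 h

theorem Θ_inj {v w : Fin 2 → ZMod 3} {r s : ZMod 3} (h : H.Θ v r = H.Θ w s) : v = w ∧ r = s := by
  have e : H.Θ v r * H.Θ (-w) (-s) = 1 := by
    rw [h, ← Θ_inv]; group
  rw [Θ_mul] at e
  obtain ⟨h1, h2⟩ := H.Θ_eq_one e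
  have hvw : v = w := by
    have : v + -w = 0 := h1
    exact add_neg_eq_zero.1 this
  subst hvw
  refine ⟨rfl, ?_⟩
  have : dt v (-v) = 0 := by simp only [dt, Pi.neg_apply]; ring
  rw [this] at h2
  linear_combination h2

end Heis

end pw

/-! ### Matrices of additive maps -/

section toMat

/-- The matrix of a map on `F₃²`. -/
def toMat (β : (Fin 2 → ZMod 3) → (Fin 2 → ZMod 3)) : Matrix (Fin 2) (Fin 2) (ZMod 3) :=
  !![β ![1, 0] 0, β ![0, 1] 0; β ![1, 0] 1, β ![0, 1] 1]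

theorem additive_smul {β : (Fin 2 → ZMod 3) → (Fin 2 → ZMod 3)} (hadd : ∀ v w, β (v + w) = β v + β w)
    (k : ZMod 3) (x : Fin 2 → ZMod 3) : β (k • x) = k • β x := by
  have h0 : β 0 = 0 := by
    have := hadd 0 0
    rw [add_zero] at this
    exact left_eq_add.1 this
  have hk : ∀ k : ZMod 3, k = 0 ∨ k = 1 ∨ k = 2 := by decide
  rcases hk k with rfl | rfl | rfl
  · simp [h0]
  · simp
  · rw [two_smul, two_smul, hadd]

theorem toMat_mulVec {β : (Fin 2 → ZMod 3) → (Fin 2 → ZMod 3)} (hadd : ∀ v w, β (v + w) = β v + β w)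
    (v : Fin 2 → ZMod 3) : toMat β *ᵥ v = β v := by
  have hv : v = v 0 • ![1, 0] + v 1 • ![0, 1] := by
    funext i
    fin_cases i <;> simp
  have h1 : β v = v 0 • β ![1, 0] + v 1 • β ![0, 1] := by
    conv_lhs => rw [hv]
    rw [hadd, additive_smul hadd, additive_smul hadd]
  rw [h1]
  funext i
  fin_cases i <;> simp [toMat, mulVec, dotProduct, Fin.sum_univ_two, mul_comm]

theorem toMat_det {β : (Fin 2 → ZMod 3) → (Fin 2 → ZMod 3)} (hdt : ∀ v w, dt (β v) (β w) = dt v w) :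
    (toMat β).det = 1 := by
  rw [toMat, Matrix.det_fin_two_of]
  have h := hdt ![1, 0] ![0, 1]
  have h1 : dt (![1, 0] : Fin 2 → ZMod 3) ![0, 1] = 1 := by simp [dt]
  rw [h1] at h
  simp only [dt] at h
  linear_combination h

end toMat

namespace Setup

variable {X : Type u} [Group X] (D : Setup X)

/-- The Heisenberg data in `Q`. -/
theorem exists_Heis : ∃ H : Heis X, D.IsInv H.a ∧ D.IsInv H.b ∧ H.z ∈ D.Z := by
  obtain ⟨a, b, ha, hb, hab⟩ := D.exists_ab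
  have hz := D.hcomm b hb.1 a ha.1
  refine ⟨⟨a, b, b * a * b⁻¹ * a⁻¹, D.hexp a ha.1, D.hexp b hb.1, D.hexp _ (D.Z_le_Q hz), ?_,
    fun g => D.Z_central hz g, by group⟩, ha, hb, hz⟩
  intro h
  apply hab
  have : b * a * b⁻¹ = a := by rwa [mul_inv_eq_one] at h
  rw [mul_inv_eq_iff_eq_mul] at this
  exact this.symm

section H

variable (H : Heis X) (ha : D.IsInv H.a) (hb : D.IsInv H.b) (hz : H.z ∈ D.Z)

include ha hb hz in
theorem Θ_mem (v : Fin 2 → ZMod 3) (r : ZMod 3) : H.Θ v r ∈ D.Q :=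
  D.Q.mul_mem (D.Q.mul_mem (D.Q.pow_mem ha.1 _) (D.Q.pow_mem hb.1 _)) (D.Q.pow_mem (D.Z_le_Q hz) _)

theorem t_pw_inv {x : X} (hx : D.IsInv x) (s : ZMod 3) : D.t * pw x s * D.t = pw x (-s) := by
  rw [pw_neg (D.hexp x hx.1)]
  unfold pw
  have h : D.t * x ^ s.val * D.t⁻¹ = (D.t * x * D.t⁻¹) ^ s.val := conj_pow.symm
  rw [D.t_inv] at h
  rw [h, hx.2, inv_pow]

include ha hb in
theorem t_Θ (v : Fin 2 → ZMod 3) (r : ZMod 3) : D.t * H.Θ v r * D.t = H.Θ (-v) r := by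
  unfold Heis.Θ
  have h1 := D.t_pw_inv ha (v 0)
  have h2 := D.t_pw_inv hb (v 1)
  have h3 : D.t * pw H.z (r - v 0 * v 1) * D.t = pw H.z (r - v 0 * v 1) := by
    rw [pw_central H.hzc, mul_assoc, D.t_mul_t, mul_one]
  have e : r - (-v) 0 * (-v) 1 = r - v 0 * v 1 := by
    simp only [Pi.neg_apply]; ring
  rw [e, Pi.neg_apply, Pi.neg_apply, ← h1, ← h2]
  calc D.t * (pw H.a (v 0) * pw H.b (v 1) * pw H.z (r - v 0 * v 1)) * D.t
      = D.t * pw H.a (v 0) * 1 * pw H.b (v 1) * 1 * pw H.z (r - v 0 * v 1) * D.t := by group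
    _ = D.t * pw H.a (v 0) * (D.t * D.t) * pw H.b (v 1) * (D.t * D.t) * pw H.z (r - v 0 * v 1) * D.t := by
        rw [D.t_mul_t]
    _ = (D.t * pw H.a (v 0) * D.t) * (D.t * pw H.b (v 1) * D.t) * (D.t * pw H.z (r - v 0 * v 1) * D.t) := by group
    _ = _ := by rw [h3]

include ha hb hz in
theorem Θ_isInv (v : Fin 2 → ZMod 3) : D.IsInv (H.Θ v 0) := by
  refine ⟨D.Θ_mem H ha hb hz v 0, ?_⟩
  rw [D.t_Θ H ha hb, H.Θ_inv]
  simp

include ha hb hz in
theorem Θ_surj [Finite X] {q : X} (hq : q ∈ D.Q) : ∃ v r, q = H.Θ v r := by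
  classical
  let f : ((Fin 2 → ZMod 3) × ZMod 3) → D.Q := fun x => ⟨H.Θ x.1 x.2, D.Θ_mem H ha hb hz _ _⟩
  have hf : Function.Injective f := by
    intro x y h
    have := H.Θ_inj (congrArg Subtype.val h)
    exact Prod.ext this.1 this.2
  have hcard : Nat.card D.Q ≤ Nat.card ((Fin 2 → ZMod 3) × ZMod 3) := by
    rw [D.hQ27]
    simp [Nat.card_eq_fintype_card, ZMod.card]
  obtain ⟨x, hx⟩ := (hf.bijective_of_nat_card_le hcard).2 ⟨q, hq⟩
  exact ⟨x.1, x.2, (congrArg Subtype.val hx).symm⟩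

include ha hb hz in
theorem inv_eq_Θ [Finite X] {w : X} (hw : D.IsInv w) : ∃ v, w = H.Θ v 0 := by
  obtain ⟨v, r, rfl⟩ := D.Θ_surj H ha hb hz hw.1
  have h1 := hw.2
  rw [D.t_Θ H ha hb, H.Θ_inv] at h1
  have h2 := (H.Θ_inj h1).2
  have h3 : ∀ x : ZMod 3, x = -x → x = 0 := by decide
  rw [h3 r h2]
  exact ⟨v, rfl⟩

include ha hb hz in
theorem conj_Θ [Finite X] {l : X} (hl : l * D.t = D.t * l) (v : Fin 2 → ZMod 3) :
    ∃ v', l * H.Θ v 0 * l⁻¹ = H.Θ v' 0 := by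
  have hI := D.Θ_isInv H ha hb hz v
  apply D.inv_eq_Θ H ha hb hz
  have htl : D.t * l⁻¹ = l⁻¹ * D.t := by
    rw [eq_inv_mul_iff_mul_eq, ← mul_assoc, hl, mul_assoc, mul_inv_cancel, mul_one]
  refine ⟨D.conj_mem hI.1 l, ?_⟩
  calc D.t * (l * H.Θ v 0 * l⁻¹) * D.t = (D.t * l) * H.Θ v 0 * (l⁻¹ * D.t) := by group
    _ = (l * D.t) * H.Θ v 0 * (D.t * l⁻¹) := by rw [← hl, htl]
    _ = l * (D.t * H.Θ v 0 * D.t) * l⁻¹ := by group
    _ = (l * H.Θ v 0 * l⁻¹)⁻¹ := by rw [hI.2]; group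

end H

end Setup

section beta

variable {X : Type u} [Group X] (H : Heis X) {l : X} {β : (Fin 2 → ZMod 3) → (Fin 2 → ZMod 3)}

theorem conj_r (hβ : ∀ v, l * H.Θ v 0 * l⁻¹ = H.Θ (β v) 0) (v : Fin 2 → ZMod 3) (r : ZMod 3) :
    l * H.Θ v r * l⁻¹ = H.Θ (β v) r := by
  rw [H.Θ_eq v r, H.Θ_eq (β v) r, ← hβ]
  have := pw_central H.hzc r l
  calc l * (H.Θ v 0 * pw H.z r) * l⁻¹ = l * H.Θ v 0 * (pw H.z r * l⁻¹) := by group
    _ = l * H.Θ v 0 * (l⁻¹ * pw H.z r) := by rw [pw_central H.hzc r l⁻¹]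
    _ = _ := by group

theorem beta_both (hβ : ∀ v, l * H.Θ v 0 * l⁻¹ = H.Θ (β v) 0) (v w : Fin 2 → ZMod 3) :
    β (v + w) = β v + β w ∧ dt (β v) (β w) = dt v w := by
  have e1 : l * (H.Θ v 0 * H.Θ w 0) * l⁻¹ = H.Θ (β v) 0 * H.Θ (β w) 0 := by
    rw [← hβ, ← hβ]; group
  rw [H.Θ_mul, H.Θ_mul, conj_r H hβ] at e1
  obtain ⟨h1, h2⟩ := H.Θ_inj e1
  refine ⟨h1, ?_⟩
  simpa using h2.symm

end beta

namespace Setup

variable {X : Type u} [Group X] [Finite X] (D : Setup X)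

/-- The action of `L` on the `t`-inverted part of `Q`. -/
theorem exists_phi (H : Heis X) (ha : D.IsInv H.a) (hb : D.IsInv H.b) (hz : H.z ∈ D.Z)
    (L : Subgroup X) (hLt : ∀ l ∈ L, l * D.t = D.t * l) :
    ∃ φ : L →* SL23, ∀ (l : L) (v : Fin 2 → ZMod 3) (r : ZMod 3),
      (l : X) * H.Θ v r * (l : X)⁻¹ = H.Θ (((φ l : SL23) : Matrix (Fin 2) (Fin 2) (ZMod 3)) *ᵥ v) r := by
  classical
  have hex : ∀ (l : L) (v : Fin 2 → ZMod 3), ∃ v', (l : X) * H.Θ v 0 * (l : X)⁻¹ = H.Θ v' 0 :=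
    fun l v => D.conj_Θ H ha hb hz (hLt l l.2) v
  choose β hβ using hex
  have hboth := fun l => beta_both H (hβ l)
  have hadd : ∀ l v w, β l (v + w) = β l v + β l w := fun l v w => (hboth l v w).1
  have hdt : ∀ l v w, dt (β l v) (β l w) = dt v w := fun l v w => (hboth l v w).2
  have hmat : ∀ l v, toMat (β l) *ᵥ v = β l v := fun l v => toMat_mulVec (hadd l) v
  have hcomp : ∀ l l' v, β (l * l') v = β l (β l' v) := by
    intro l l' v
    have e : ((l * l' : L) : X) * H.Θ v 0 * ((l * l' : L) : X)⁻¹ = H.Θ (β l (β l' v)) 0 := by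
      rw [← hβ l, ← hβ l']
      simp only [Subgroup.coe_mul]
      group
    rw [hβ (l * l') v] at e
    exact (H.Θ_inj e).1
  let φ : L →* SL23 := MonoidHom.mk' (fun l => ⟨toMat (β l), toMat_det (hdt l)⟩) (by
    intro l l'
    apply Subtype.ext
    change toMat (β (l * l')) = toMat (β l) * toMat (β l')
    apply Matrix.ext_iff_mulVec.2
    intro v
    rw [hmat, ← Matrix.mulVec_mulVec, hmat, hmat, hcomp])
  refine ⟨φ, ?_⟩
  intro l v r
  rw [conj_r H (hβ l)]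
  congr 1
  exact (hmat l v).symm

omit [Finite X] in
include D in
theorem card_X : Nat.card X = 648 := by
  have hker : D.ρ.ker = D.Q := by
    ext x
    exact D.hρk x
  have h1 : Nat.card D.ρ.ker * Nat.card D.ρ.range = Nat.card X := by
    rw [← Subgroup.index_ker, Subgroup.card_mul_index]
  have h2 : D.ρ.range = ⊤ := MonoidHom.range_eq_top.2 D.hρs
  rw [hker, D.hQ27, h2, Subgroup.card_top, Nat.card_eq_fintype_card (α := SL23), sl_card] at h1
  omega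

include D in
/-- **The structure theorem**. -/
theorem exists_iso (hE : ∃ E : Subgroup X, IsMulCommutative E ∧ (∀ a ∈ E, a ^ 3 = 1) ∧ Nat.card E = 27) :
    Nonempty (X ≃* HS (ZMod 3)) := by
  classical
  obtain ⟨n, hnt, hn3, hnQ⟩ := D.exists_n hE
  obtain ⟨R, hR8, hRt, hRs, hRn⟩ := D.exists_R
  obtain ⟨L, hLt, hLb⟩ := D.exists_L R hR8 hRt hRs hRn hnt hn3 hnQ
  obtain ⟨H, ha, hb, hz⟩ := D.exists_Heis
  obtain ⟨φ, hφ⟩ := D.exists_phi H ha hb hz L hLt
  have hLcard : Nat.card L = 24 := by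
    rw [Nat.card_congr (Equiv.ofBijective _ hLb), Nat.card_eq_fintype_card, sl_card]
  have hφinj : Function.Injective φ := by
    rw [injective_iff_map_eq_one]
    intro l hl
    apply hLb.1
    rw [map_one]
    change D.ρ (l : X) = 1
    rw [D.hρk]
    apply D.cent_le
    intro q hq
    obtain ⟨v, r, rfl⟩ := D.Θ_surj H ha hb hz hq
    have := hφ l v r
    rw [hl] at this
    have h1 : ((1 : SL23) : Matrix (Fin 2) (Fin 2) (ZMod 3)) = 1 := rfl
    rw [h1, Matrix.one_mulVec] at this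
    rwa [mul_inv_eq_iff_eq_mul] at this
  have hφb : Function.Bijective φ :=
    hφinj.bijective_of_nat_card_le (by rw [hLcard, Nat.card_eq_fintype_card, sl_card])
  let e := MulEquiv.ofBijective φ hφb
  let lam : SL23 →* X := L.subtype.comp e.symm.toMonoidHom
  have hlam : ∀ (A : SL23) (v : Fin 2 → ZMod 3) (r : ZMod 3),
      lam A * H.Θ v r * (lam A)⁻¹ = H.Θ ((A : Matrix (Fin 2) (Fin 2) (ZMod 3)) *ᵥ v) r := by
    intro A v r
    have h1 := hφ (e.symm A) v r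
    have h2 : φ (e.symm A) = A := e.apply_symm_apply A
    rw [h2] at h1
    exact h1
  let Ψ : HS (ZMod 3) →* X := MonoidHom.mk' (fun x => H.Θ x.v x.r * lam x.A) (by
    intro x y
    have h1 := hlam x.A y.v y.r
    have h2 : lam x.A * H.Θ y.v y.r = H.Θ ((x.A : Matrix (Fin 2) (Fin 2) (ZMod 3)) *ᵥ y.v) y.r * lam x.A := by
      rw [← h1]; group
    change H.Θ (x.v + (x.A : Matrix (Fin 2) (Fin 2) (ZMod 3)) *ᵥ y.v)
      (x.r + y.r + dt x.v ((x.A : Matrix (Fin 2) (Fin 2) (ZMod 3)) *ᵥ y.v)) * lam (x.A * y.A) = _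
    rw [← H.Θ_mul, map_mul]
    calc H.Θ x.v x.r * H.Θ ((x.A : Matrix (Fin 2) (Fin 2) (ZMod 3)) *ᵥ y.v) y.r * (lam x.A * lam y.A)
        = H.Θ x.v x.r * (H.Θ ((x.A : Matrix (Fin 2) (Fin 2) (ZMod 3)) *ᵥ y.v) y.r * lam x.A) * lam y.A := by group
      _ = H.Θ x.v x.r * (lam x.A * H.Θ y.v y.r) * lam y.A := by rw [h2]
      _ = _ := by group)
  have hΨ : ∀ x, Ψ x = H.Θ x.v x.r * lam x.A := fun x => rfl
  have hΨinj : Function.Injective Ψ := by
    rw [injective_iff_map_eq_one]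
    intro x hx
    rw [hΨ] at hx
    have hΘ1 : D.ρ (H.Θ x.v x.r) = 1 := (D.hρk _).2 (D.Θ_mem H ha hb hz _ _)
    have h2 := congrArg D.ρ hx
    rw [map_mul, hΘ1, one_mul, map_one] at h2
    have h3 : e.symm x.A = 1 := by
      apply hLb.1
      rw [map_one]
      exact h2
    have h4 : x.A = 1 := by
      have := congrArg e h3
      simpa using this
    have h5 : lam x.A = 1 := by rw [h4, map_one]
    rw [h5, mul_one] at hx
    obtain ⟨h6, h7⟩ := H.Θ_eq_one hx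
    ext1
    · exact h6
    · exact h7
    · exact h4
  have hcard : Nat.card X ≤ Nat.card (HS (ZMod 3)) := by
    rw [D.card_X, Nat.card_congr hsEquiv, Nat.card_prod, Nat.card_prod,
      Nat.card_eq_fintype_card (α := SL23), sl_card]
    simp [Nat.card_eq_fintype_card, ZMod.card]
  exact ⟨(MulEquiv.ofBijective Ψ (hΨinj.bijective_of_nat_card_le hcard)).symm⟩

end Setup

end Cfsg.Agent.Lib.H3366
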